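import Groth.Agent.LimMore.Basic
import Groth.Agent.FlatSpread.LimScheme
import Mathlib.AlgebraicGeometry.Morphisms.SmoothFiber
import Mathlib.AlgebraicGeometry.Morphisms.LocalFlatDescent
import Mathlib.AlgebraicGeometry.Morphisms.FlatMono
import Mathlib.AlgebraicGeometry.Morphisms.Etale
import Mathlib.AlgebraicGeometry.Morphisms.FormallyUnramified

/-!
Smooth, unramified and étale morphisms descend along cofiltered limits.
-/

set_option autoImplicit false
universe u
open CategoryTheory CategoryTheory.Limits AlgebraicGeometry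

namespace Groth.Agent.LimMore

open LimDesc

/-- a flat morphism of finite presentation is smooth along a smooth fibre -/
theorem mem_smoothLocus_of_smooth_fiber {X Y : Scheme.{u}} (f : X ⟶ Y) [LocallyOfFinitePresentation f] [Flat f]
    (x : X) (h : Smooth (f.fiberToSpecResidueField (f x))) : x ∈ f.smoothLocus := by
  obtain ⟨R, j, _, b, hb⟩ := Y.exists_Spec_apply_eq (f x)
  obtain ⟨z, hz, -⟩ := Scheme.exists_preimage_of_isPullback (IsPullback.of_hasPullback f j) x b hb.symm
  obtain ⟨S, i, _, q, hq⟩ := (pullback f j).exists_Spec_apply_eq z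
  obtain ⟨φ, hφ⟩ := Spec.map_surjective (i ≫ pullback.snd f j)
  have hsq : (i ≫ pullback.fst f j) ≫ f = Spec.map φ ≫ j := by
    rw [hφ, Category.assoc, Category.assoc, pullback.condition]
  have hqx : (i ≫ pullback.fst f j) q = x := by rw [Scheme.Hom.comp_apply, hq, hz]
  have hfp : φ.hom.FinitePresentation := (HasRingHomProperty.Spec_iff (P := @LocallyOfFinitePresentation)).1 (by
    rw [hφ]; infer_instance)
  have hfl : φ.hom.Flat := (HasRingHomProperty.Spec_iff (P := @Flat)).1 (by rw [hφ]; infer_instance)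
  have hfib : Smooth ((Spec.map φ).fiberToSpecResidueField (Spec.map φ q)) := by
    have h1 : j (Spec.map φ q) = f x := by
      rw [← hqx, ← Scheme.Hom.comp_apply, ← hsq, Scheme.Hom.comp_apply]
    have : Smooth (f.fiberToSpecResidueField (j (Spec.map φ q))) := h1 ▸ h
    have h2 : Smooth ((pullback.snd f j).fiberToSpecResidueField (Spec.map φ q)) :=
      MorphismProperty.of_isPullback
        (isPullback_fiberToSpecResidueField_of_isPullback (IsPullback.of_hasPullback f j) _) this
    have : Smooth (pullback.snd (pullback.snd f j) ((Spec R).fromSpecResidueField (Spec.map φ q))) := h2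
    rw [Scheme.Hom.fiberToSpecResidueField]
    revert this
    generalize Spec.map φ q = y
    intro this
    rw [hφ, ← pullbackRightPullbackFstIso_inv_snd_snd]
    refine MorphismProperty.comp_mem _ _ _ inferInstance (MorphismProperty.comp_mem _ _ _ ?_ this)
    exact MorphismProperty.pullback_snd _ _ inferInstance
  algebraize [φ.hom]
  obtain ⟨p, hp⟩ : ∃ p, Spec.map φ q = p := ⟨_, rfl⟩
  rw [hp] at hfib
  haveI : q.asIdeal.LiesOver p.asIdeal := ⟨by rw [← hp]; rfl⟩
  haveI : Algebra.FormallySmooth p.asIdeal.ResidueField (p.asIdeal.Fiber S) := by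
    rw [← RingHom.formallySmooth_algebraMap]
    refine RingHom.Smooth.formallySmooth ?_
    rw [← CommRingCat.hom_ofHom (algebraMap p.asIdeal.ResidueField (p.asIdeal.Fiber ↑S)),
      ← HasRingHomProperty.Spec_iff (P := @Smooth), ← MorphismProperty.arrow_mk_iso_iff (P := @Smooth)
      (Spec.fiberToSpecResidueFieldIso R S p)]
    exact hfib
  have hat : Algebra.IsSmoothAt R q.asIdeal := Algebra.IsSmoothAt.of_formallySmooth_fiber p.asIdeal q.asIdeal
  obtain ⟨t, ht, hsm⟩ := Algebra.IsSmoothAt.exists_notMem_smooth (R := R) q.asIdeal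
  let m : Spec (CommRingCat.of (Localization.Away t)) ⟶ Spec S :=
    Spec.map (CommRingCat.ofHom (algebraMap S (Localization.Away t)))
  have : IsOpenImmersion m := IsOpenImmersion.of_isLocalization t
  have hs1 : Smooth (m ≫ Spec.map φ) := by
    rw [← Spec.map_comp, HasRingHomProperty.Spec_iff (P := @Smooth)]
    exact RingHom.smooth_algebraMap.2 hsm
  have hs2 : Smooth ((m ≫ i ≫ pullback.fst f j) ≫ f) := by
    rw [Category.assoc, hsq, ← Category.assoc]
    infer_instance
  obtain ⟨q', hq'⟩ : q ∈ Set.range m := by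
    change q ∈ Set.range (PrimeSpectrum.comap (algebraMap S (Localization.Away t)))
    rw [PrimeSpectrum.localization_away_comap_range (Localization.Away t) t]
    exact ht
  have h3 : q' ∈ (m ≫ i ≫ pullback.fst f j) ⁻¹ᵁ f.smoothLocus := by
    rw [Scheme.Hom.preimage_smoothLocus_eq]
    have := hs2
    rw [Scheme.Hom.smoothLocus_eq_top]
    trivial
  have h4 : (m ≫ i ≫ pullback.fst f j) q' = x := by rw [Scheme.Hom.comp_apply, hq', hqx]
  exact h4 ▸ h3

variable {I : Type u} [SmallCategory I] [IsCofiltered I] (D : I ⥤ Scheme.{u})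
  [∀ {i j} (f : i ⟶ j), IsAffineHom (D.map f)] {i₀ : I}
variable (c : Cone D) (hc : IsLimit c)
variable {X₀ Y₀ : Scheme.{u}} (f₀ : X₀ ⟶ Y₀) (g₀ : Y₀ ⟶ D.obj i₀)
variable {X Y : Scheme.{u}} {f : X ⟶ Y} {g : Y ⟶ c.pt} {qY : Y ⟶ Y₀} {qX : X ⟶ X₀}
variable (hY : IsPullback qY g g₀ (c.π.app i₀)) (hX : IsPullback qX f f₀ qY)

include hc hY hX in
/-- smooth morphisms descend -/
theorem exists_smooth [CompactSpace X₀] [LocallyOfFinitePresentation f₀] [Smooth f] :
    ∃ j : Over i₀, Smooth (stageMap D g₀ f₀ j) := by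
  obtain ⟨l, hl⟩ := FlatSpread.exists_flat D c hc f₀ g₀ hY hX
  have hXS := isPullback_comp D g₀ c hY f₀ hX
  let fl := stageMap D g₀ f₀ l
  have : LocallyOfFinitePresentation fl :=
    MorphismProperty.of_isPullback (P := @LocallyOfFinitePresentation) (isPullback_stageMap D g₀ f₀ l) inferInstance
  let U : (stage D (f₀ ≫ g₀) l).Opens := fl.smoothLocus
  have : ∀ {i k : Over i₀} (e : i ⟶ k), IsAffineHom ((tower D (f₀ ≫ g₀)).map e) :=
    fun e => isAffineHom_tower_map D (f₀ ≫ g₀) e
  have : ∀ k, CompactSpace ((tower D (f₀ ≫ g₀)).obj k) := fun k => compactSpace_stage D (f₀ ≫ g₀) k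
  obtain ⟨k, e, he⟩ := exists_map_eq_top (tower D (f₀ ≫ g₀)) (towerCone D (f₀ ≫ g₀) c hXS)
    (isLimitTowerCone D (f₀ ≫ g₀) c hXS hc) U (by
      refine eq_top_iff.2 fun x _ => ?_
      refine mem_smoothLocus_of_smooth_fiber fl (proj D (f₀ ≫ g₀) c hXS l (show X from x)) ?_
      have hP := isPullback_proj_stageMap D g₀ c hY f₀ hX l
      have hfb := isPullback_fiberToSpecResidueField_of_isPullback hP (f (show X from x))
      have e1 : fl (proj D (f₀ ≫ g₀) c hXS l (show X from x)) = proj D g₀ c hY l (f (show X from x)) := by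
        rw [← Scheme.Hom.comp_apply, proj_stageMap D g₀ c hY f₀ hX l, Scheme.Hom.comp_apply]
      rw [e1]
      let r := (proj D g₀ c hY l).residueFieldMap (f (show X from x))
      have hflat : Flat (Spec.map r) := by
        rw [HasRingHomProperty.Spec_iff (P := @Flat)]
        letI := r.hom.toAlgebra
        exact Module.Flat.of_free
      have hsurj : Surjective (Spec.map r) := ⟨fun y => ⟨default, Subsingleton.elim _ _⟩⟩
      refine MorphismProperty.of_isPullback_of_descendsAlong (P := @Smooth)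
        (Q := (@Surjective ⊓ @Flat ⊓ @QuasiCompact : MorphismProperty Scheme.{u})) hfb.flip ⟨⟨hsurj, hflat⟩, inferInstance⟩ ?_
      have : Smooth (f.fiberToSpecResidueField (f (show X from x))) :=
        MorphismProperty.pullback_snd _ _ inferInstance
      exact this)
  refine ⟨k, ?_⟩
  have hk := isPullback_trans_stageMap D g₀ f₀ e
  have hU : Smooth (U.ι ≫ fl) := by
    rw [← Scheme.Hom.smoothLocus_eq_top_iff, ← Scheme.Hom.preimage_smoothLocus_eq]
    exact Scheme.Opens.ι_preimage_self U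
  have h2 := (isPullback_morphismRestrict (trans D (f₀ ≫ g₀) e) U).paste_vert hk
  have h3 : Smooth ((trans D (f₀ ≫ g₀) e ⁻¹ᵁ U).ι ≫ stageMap D g₀ f₀ k) := MorphismProperty.of_isPullback h2 hU
  have he' : trans D (f₀ ≫ g₀) e ⁻¹ᵁ U = ⊤ := he
  rw [he'] at h3
  haveI : IsIso (⊤ : (stage D (f₀ ≫ g₀) k).Opens).ι := (Scheme.topIso _).isIso_hom
  exact (MorphismProperty.cancel_left_of_respectsIso @Smooth (⊤ : (stage D (f₀ ≫ g₀) k).Opens).ι _).1 h3

include hc hY hX in
/-- unramified morphisms descend -/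
theorem exists_formallyUnramified [CompactSpace X₀] [LocallyOfFiniteType f₀] [FormallyUnramified f] :
    ∃ j : Over i₀, FormallyUnramified (stageMap D g₀ f₀ j) := by
  let gP := pullback.fst f₀ f₀ ≫ f₀ ≫ g₀
  let δ := pullback.diagonal f₀
  have hδ : δ ≫ gP = f₀ ≫ g₀ := by simp [δ, gP]
  have : LocallyOfFinitePresentation δ := by
    have : LocallyOfFinitePresentation (δ ≫ pullback.fst f₀ f₀) := by
      rw [pullback.diagonal_fst]; infer_instance
    exact lfp_of_comp δ (pullback.fst f₀ f₀)
  have hXS := isPullback_comp D g₀ c hY f₀ hX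
  let qP : pullback f f ⟶ pullback f₀ f₀ := pullback.map f f f₀ f₀ qX qX qY hX.w.symm hX.w.symm
  have hq1 : qP ≫ pullback.fst f₀ f₀ = pullback.fst f f ≫ qX := pullback.lift_fst _ _ _
  have hq2 : qP ≫ pullback.snd f₀ f₀ = pullback.snd f f ≫ qX := pullback.lift_snd _ _ _
  have hP : IsPullback qP (pullback.fst f f) (pullback.fst f₀ f₀) qX := by
    have h1 : IsPullback (pullback.snd f f ≫ qX) (pullback.fst f f) f₀ (qX ≫ f₀) := by
      rw [hX.w]
      exact ((IsPullback.of_hasPullback f f).flip.paste_horiz hX)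
    rw [← hq2] at h1
    exact h1.of_right hq1 (IsPullback.of_hasPullback f₀ f₀).flip
  have hPS : IsPullback qP (pullback.fst f f ≫ f ≫ g) gP (c.π.app i₀) := hP.paste_vert hXS
  have hD : IsPullback qX (pullback.diagonal f) δ qP := by
    refine IsPullback.of_bot ?_ ?_ hP
    · simp only [δ, pullback.diagonal_fst]
      exact IsPullback.of_vert_isIso ⟨by simp⟩
    · apply pullback.hom_ext <;> simp [δ, hq1, hq2]
  have hf' : LocallyOfFiniteType f := MorphismProperty.of_isPullback (P := @LocallyOfFiniteType) hX inferInstance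
  have : IsOpenImmersion (pullback.diagonal f) := inferInstance
  have : Flat (pullback.diagonal f) := inferInstance
  obtain ⟨j, hj⟩ := FlatSpread.exists_flat D c hc δ gP hPS hD
  refine ⟨j, ?_⟩
  have hb := isPullback_stageMap D g₀ f₀ j
  let π := pullback.map (stageMap D g₀ f₀ j) (stageMap D g₀ f₀ j) f₀ f₀ (toBase D (f₀ ≫ g₀) j) (toBase D (f₀ ≫ g₀) j)
    (toBase D g₀ j) hb.w.symm hb.w.symm
  have hπ1 : π ≫ pullback.fst f₀ f₀ = pullback.fst _ _ ≫ toBase D (f₀ ≫ g₀) j := pullback.lift_fst _ _ _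
  have hπ2 : π ≫ pullback.snd f₀ f₀ = pullback.snd _ _ ≫ toBase D (f₀ ≫ g₀) j := pullback.lift_snd _ _ _
  have hπ : IsPullback π (pullback.fst _ _) (pullback.fst f₀ f₀) (toBase D (f₀ ≫ g₀) j) := by
    have h1 : IsPullback (pullback.snd (stageMap D g₀ f₀ j) (stageMap D g₀ f₀ j) ≫ toBase D (f₀ ≫ g₀) j)
        (pullback.fst _ _) f₀ (toBase D (f₀ ≫ g₀) j ≫ f₀) := by
      rw [hb.w]
      exact ((IsPullback.of_hasPullback _ _).flip.paste_horiz hb)
    rw [← hπ2] at h1
    exact h1.of_right hπ1 (IsPullback.of_hasPullback f₀ f₀).flip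
  have hπS : IsPullback π (pullback.fst _ _ ≫ toStage D (f₀ ≫ g₀) j) gP (D.map j.hom) :=
    hπ.paste_vert (isPullback_stage D (f₀ ≫ g₀) j)
  let e := hπS.isoIsPullback _ _ (isPullback_stage D gP j)
  have hΔ : IsPullback (toBase D (f₀ ≫ g₀) j) (pullback.diagonal (stageMap D g₀ f₀ j)) δ π := by
    refine IsPullback.of_bot ?_ ?_ hπ
    · simp only [δ, pullback.diagonal_fst]
      exact IsPullback.of_vert_isIso ⟨by simp⟩
    · apply pullback.hom_ext <;> simp [δ, hπ1, hπ2]
  have hΔ' : IsPullback (toBase D (f₀ ≫ g₀) j) (pullback.diagonal (stageMap D g₀ f₀ j) ≫ e.hom) δ (toBase D gP j) :=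
    hΔ.of_iso (Iso.refl _) (Iso.refl _) e (Iso.refl _) (by simp) (by simp) (by simp) (by simp [e])
  have : Flat (pullback.diagonal (stageMap D g₀ f₀ j)) := by
    refine (MorphismProperty.cancel_right_of_respectsIso @Flat _ e.hom).1 ?_
    rw [← hΔ'.isoIsPullback_hom_snd _ _ (isPullback_stageMap D gP δ j)]
    exact (MorphismProperty.cancel_left_of_respectsIso @Flat _ _).2 hj
  have : LocallyOfFinitePresentation (pullback.diagonal (stageMap D g₀ f₀ j)) :=
    MorphismProperty.of_isPullback (P := @LocallyOfFinitePresentation) hΔ inferInstance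
  have := IsOpenImmersion.of_flat_of_mono (pullback.diagonal (stageMap D g₀ f₀ j))
  infer_instance

include hc hY hX in
/-- étale morphisms descend -/
theorem exists_etale [CompactSpace X₀] [LocallyOfFinitePresentation f₀] [Etale f] :
    ∃ j : Over i₀, Etale (stageMap D g₀ f₀ j) := by
  obtain ⟨j₁, h₁⟩ := FlatSpread.exists_flat D c hc f₀ g₀ hY hX
  obtain ⟨j₂, h₂⟩ := exists_formallyUnramified D c hc f₀ g₀ hY hX
  obtain ⟨l, a, b, -⟩ := IsCofilteredOrEmpty.cone_objs j₁ j₂
  refine ⟨l, Etale.iff_flat_and_formallyUnramified.2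
    ⟨MorphismProperty.of_isPullback (P := @Flat) (isPullback_trans_stageMap D g₀ f₀ a) h₁,
    MorphismProperty.of_isPullback (P := @FormallyUnramified) (isPullback_trans_stageMap D g₀ f₀ b) h₂,
    MorphismProperty.of_isPullback (P := @LocallyOfFinitePresentation) (isPullback_stageMap D g₀ f₀ l) inferInstance⟩⟩

end Groth.Agent.LimMore
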