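import Groth.Agent.LimMore.Basic
import Groth.Agent.FlatSpread.LimScheme
import Mathlib.AlgebraicGeometry.Morphisms.FlatMono

/-!
Morphisms and isomorphisms descend to a stage.
-/

set_option autoImplicit false
universe u
open CategoryTheory CategoryTheory.Limits AlgebraicGeometry

namespace Groth.Agent.LimMore

open LimDesc

variable {I : Type u} [SmallCategory I] [IsCofiltered I] (D : I ⥤ Scheme.{u})
  [∀ {i j} (f : i ⟶ j), IsAffineHom (D.map f)] {i₀ : I}
variable (c : Cone D) (hc : IsLimit c)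
variable {X₀ Y₀ : Scheme.{u}} (a₀ : X₀ ⟶ D.obj i₀) (b₀ : Y₀ ⟶ D.obj i₀)
variable {X Y : Scheme.{u}} {a : X ⟶ c.pt} {b : Y ⟶ c.pt} {qX : X ⟶ X₀} {qY : Y ⟶ Y₀}
variable (hX : IsPullback qX a a₀ (c.π.app i₀)) (hY : IsPullback qY b b₀ (c.π.app i₀))

include hc hX hY in
/-- morphisms over the limit come from a stage -/
theorem exists_hom [CompactSpace X₀] [QuasiSeparatedSpace X₀] [LocallyOfFinitePresentation b₀]
    (f : X ⟶ Y) (hf : f ≫ b = a) :
    ∃ (j : Over i₀) (fj : stage D a₀ j ⟶ stage D b₀ j), fj ≫ toStage D b₀ j = toStage D a₀ j ∧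
      proj D a₀ c hX j ≫ fj = f ≫ proj D b₀ c hY j := by
  have : ∀ j, CompactSpace ((tower D a₀).obj j) := fun j => compactSpace_stage D a₀ j
  have : ∀ j, QuasiSeparatedSpace ((tower D a₀).obj j) := fun j => quasiSeparatedSpace_stage D a₀ j
  have : ∀ {i j : Over i₀} (e : i ⟶ j), IsAffineHom ((tower D a₀).map e) :=
    fun e => isAffineHom_tower_map D a₀ e
  obtain ⟨k, s, hs, hs'⟩ := Scheme.exists_π_app_comp_eq_of_locallyOfFinitePresentation
    (tower D a₀) (towerToBase D a₀ ≫ (Functor.const _).map a₀) b₀ _ (isLimitTowerCone D a₀ c hX hc) (f ≫ qY) (by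
      ext k
      show proj D a₀ c hX k ≫ toBase D a₀ k ≫ a₀ = (f ≫ qY) ≫ b₀
      rw [proj_toBase_assoc, Category.assoc, hY.w, reassoc_of% hf, hX.w])
  have hs1 : proj D a₀ c hX k ≫ (s : stage D a₀ k ⟶ Y₀) = f ≫ qY := hs
  have hs2 : (s : stage D a₀ k ⟶ Y₀) ≫ b₀ = toBase D a₀ k ≫ a₀ := hs'
  refine ⟨k, pullback.lift s (toStage D a₀ k) (hs2.trans (isPullback_stage D a₀ k).w), lift_toStage _ _ _ _ _, ?_⟩
  apply pullback.hom_ext
  · rw [Category.assoc, lift_toBase, hs1, Category.assoc, proj_toBase]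
  · rw [Category.assoc, lift_toStage, proj_toStage, Category.assoc, proj_toStage, reassoc_of% hf]

variable {f₀ : X₀ ⟶ Y₀} {g₀ : Y₀ ⟶ D.obj i₀} {f : X ⟶ Y} {g : Y ⟶ c.pt}

include hc in
/-- isomorphisms descend -/
theorem exists_isIso [CompactSpace (D.obj i₀)] [QuasiCompact g₀] [QuasiSeparated g₀] [LocallyOfFiniteType g₀]
    [LocallyOfFinitePresentation (f₀ ≫ g₀)] [QuasiCompact (f₀ ≫ g₀)]
    (hY : IsPullback qY g g₀ (c.π.app i₀)) (hX : IsPullback qX f f₀ qY) [IsIso f] :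
    ∃ j : Over i₀, IsIso (stageMap D g₀ f₀ j) := by
  have : LocallyOfFinitePresentation f₀ := lfp_of_comp f₀ g₀
  have : CompactSpace X₀ := QuasiCompact.compactSpace_of_compactSpace (f₀ ≫ g₀)
  have : CompactSpace Y₀ := QuasiCompact.compactSpace_of_compactSpace g₀
  obtain ⟨j₁, h₁⟩ := FlatSpread.exists_flat D c hc f₀ g₀ hY hX
  obtain ⟨j₂, h₂⟩ := exists_mono D c hc f₀ g₀ hY hX
  obtain ⟨l, e₁, e₂, -⟩ := IsCofilteredOrEmpty.cone_objs j₁ j₂
  have : Flat (stageMap D g₀ f₀ l) :=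
    MorphismProperty.of_isPullback (P := @Flat) (isPullback_trans_stageMap D g₀ f₀ e₁) h₁
  have : Mono (stageMap D g₀ f₀ l) :=
    MorphismProperty.of_isPullback (P := MorphismProperty.monomorphisms Scheme.{u}) (isPullback_trans_stageMap D g₀ f₀ e₂) h₂
  have : LocallyOfFinitePresentation (stageMap D g₀ f₀ l) :=
    MorphismProperty.of_isPullback (P := @LocallyOfFinitePresentation) (isPullback_stageMap D g₀ f₀ l) inferInstance
  have := IsOpenImmersion.of_flat_of_mono (stageMap D g₀ f₀ l)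
  let U : ((tower D g₀).obj l).Opens := (stageMap D g₀ f₀ l).opensRange
  have : ∀ {i j : Over i₀} (e : i ⟶ j), IsAffineHom ((tower D g₀).map e) := fun e => isAffineHom_tower_map D g₀ e
  have : ∀ j, CompactSpace ((tower D g₀).obj j) := fun j => compactSpace_stage D g₀ j
  obtain ⟨k, e, he⟩ := exists_map_eq_top (tower D g₀) (towerCone D g₀ c hY) (isLimitTowerCone D g₀ c hY hc) U (by
    refine eq_top_iff.2 fun y _ => ?_
    refine ⟨proj D (f₀ ≫ g₀) c (isPullback_comp D g₀ c hY f₀ hX) l ((inv f) (show Y from y)), ?_⟩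
    change (proj D (f₀ ≫ g₀) c (isPullback_comp D g₀ c hY f₀ hX) l ≫ stageMap D g₀ f₀ l) _ = _
    rw [proj_stageMap D g₀ c hY f₀ hX l, ← Scheme.Hom.comp_apply, IsIso.inv_hom_id_assoc]
    rfl)
  have hk := isPullback_trans_stageMap D g₀ f₀ e
  have : IsOpenImmersion (stageMap D g₀ f₀ k) :=
    MorphismProperty.of_isPullback (P := @IsOpenImmersion) hk inferInstance
  have : Surjective (stageMap D g₀ f₀ k) := ⟨fun y => by
    obtain ⟨x, hx⟩ := he.ge (Set.mem_univ y)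
    obtain ⟨z, -, hz⟩ := Scheme.exists_preimage_of_isPullback hk x y hx
    exact ⟨z, hz⟩⟩
  exact ⟨k, (isIso_iff_isOpenImmersion_and_surjective _).2 ⟨inferInstance, inferInstance⟩⟩

end Groth.Agent.LimMore
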