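import Groth.Agent.LimMore.Basic

/-!
Variants of the descent theorems which assume only that the target is quasi-compact.
-/

set_option autoImplicit false
universe u
open CategoryTheory CategoryTheory.Limits AlgebraicGeometry

namespace Groth.Agent.LimMore

open LimDesc

variable {I : Type u} [SmallCategory I] [IsCofiltered I] (D : I ⥤ Scheme.{u})
  [∀ {i j} (f : i ⟶ j), IsAffineHom (D.map f)] {i₀ : I}
variable (c : Cone D) (hc : IsLimit c)
variable {X₀ Y₀ : Scheme.{u}} (f₀ : X₀ ⟶ Y₀) (g₀ : Y₀ ⟶ D.obj i₀)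
variable {X Y : Scheme.{u}} {f : X ⟶ Y} {g : Y ⟶ c.pt} {qY : Y ⟶ Y₀} {qX : X ⟶ X₀}
variable (hY : IsPullback qY g g₀ (c.π.app i₀)) (hX : IsPullback qX f f₀ qY)

include hc hY hX in
/-- affine morphisms descend; only the target needs to be quasi-compact -/
theorem exists_isAffineHom_of_compactSpace [CompactSpace Y₀] [QuasiCompact f₀] [QuasiSeparated f₀]
    [IsAffineHom f] : ∃ j : Over i₀, IsAffineHom (stageMap D g₀ f₀ j) := by
  classical
  have := isAffineHom_π_app D c hc i₀
  have : IsAffineHom qY := MorphismProperty.of_isPullback hY.flip inferInstance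
  let 𝒰 := Y₀.affineCover.finiteSubcover
  let V (k : 𝒰.I₀) : Y₀.Opens := (𝒰.f k).opensRange
  have hV (k) : IsAffineOpen (V k) := by
    have : IsAffine (𝒰.X k) := by dsimp [𝒰]; infer_instance
    exact isAffineOpen_opensRange _
  have key : ∀ k, ∃ j : Over i₀,
      IsAffineOpen (toBase D ((f₀ ⁻¹ᵁ V k).ι ≫ f₀ ≫ g₀) j ⁻¹ᵁ ⊤) := by
    intro k
    let W : X₀.Opens := f₀ ⁻¹ᵁ V k
    have : CompactSpace W := isCompact_iff_compactSpace.mp
      (QuasiCompact.isCompact_preimage (f := f₀) _ (V k).2 (hV k).isCompact)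
    have : QuasiSeparatedSpace W := (isQuasiSeparated_iff_quasiSeparatedSpace _ W.2).mp
      (f₀.isQuasiSeparated_preimage (hV k).isQuasiSeparated)
    exact exists_isAffineOpen_preimage_toBase D c hc (W.ι ≫ f₀ ≫ g₀)
      ((isPullback_morphismRestrict qX W).paste_vert (isPullback_comp D g₀ c hY f₀ hX))
      ⊤ isCompact_univ (by
        have h : IsAffineOpen (qX ⁻¹ᵁ W) := by
          show IsAffineOpen (qX ⁻¹ᵁ f₀ ⁻¹ᵁ V k)
          rw [← Scheme.Hom.comp_preimage, hX.w, Scheme.Hom.comp_preimage]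
          exact ((hV k).preimage qY).preimage f
        haveI : IsAffine (qX ⁻¹ᵁ W).toScheme := h
        exact isAffineOpen_top _)
  choose j hj using key
  cases nonempty_fintype 𝒰.I₀
  obtain ⟨l, hl⟩ := IsCofiltered.inf_objs_exists (Finset.univ.image j)
  refine ⟨l, isAffineHom_of_forall_exists_isAffineOpen _ fun y => ?_⟩
  obtain ⟨k, z, hz⟩ := 𝒰.exists_eq (toBase D g₀ l y)
  refine ⟨toBase D g₀ l ⁻¹ᵁ V k, ⟨z, hz⟩, (have := isAffineHom_toBase D g₀ l; (hV k).preimage _), ?_⟩
  rw [← Scheme.Hom.comp_preimage, stageMap_toBase, Scheme.Hom.comp_preimage]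
  have a : l ⟶ j k := (hl (Finset.mem_image_of_mem j (Finset.mem_univ k))).some
  rw [← trans_toBase D (f₀ ≫ g₀) a, Scheme.Hom.comp_preimage]
  have : IsAffineHom (trans D (f₀ ≫ g₀) a) := isAffineHom_tower_map D (f₀ ≫ g₀) a
  refine IsAffineOpen.preimage ?_ (trans D (f₀ ≫ g₀) a)
  -- the preimage of an open is the stage of the open
  let W : X₀.Opens := f₀ ⁻¹ᵁ V k
  let P := toBase D (f₀ ≫ g₀) (j k) ⁻¹ᵁ W
  have h2 : IsPullback (toBase D (f₀ ≫ g₀) (j k) ∣_ W) (P.ι ≫ toStage D (f₀ ≫ g₀) (j k))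
      (W.ι ≫ f₀ ≫ g₀) (D.map (j k).hom) :=
    (isPullback_morphismRestrict _ W).paste_vert (isPullback_stage D (f₀ ≫ g₀) (j k))
  let e := h2.isoIsPullback _ _ (isPullback_stage D (W.ι ≫ f₀ ≫ g₀) (j k))
  have h3 : IsAffine (stage D (W.ι ≫ f₀ ≫ g₀) (j k)) := by
    have h4 := hj k
    have h5 : IsAffineOpen (⊤ : (stage D (W.ι ≫ f₀ ≫ g₀) (j k)).Opens) := h4
    have : IsAffine (⊤ : (stage D (W.ι ≫ f₀ ≫ g₀) (j k)).Opens).toScheme := h5
    exact IsAffine.of_isIso (Scheme.topIso _).inv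
  exact IsAffine.of_isIso e.hom

include hc hY hX in
/-- closed immersions of finite type descend; only the target needs to be quasi-compact -/
theorem exists_isClosedImmersion_of_compactSpace [CompactSpace Y₀] [QuasiCompact f₀] [QuasiSeparated f₀]
    [LocallyOfFiniteType f₀] [IsClosedImmersion f] :
    ∃ j : Over i₀, IsClosedImmersion (stageMap D g₀ f₀ j) := by
  obtain ⟨o, ho⟩ := exists_isAffineHom_of_compactSpace D c hc f₀ g₀ hY hX
  have : LocallyOfFiniteType (stageMap D g₀ f₀ o) :=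
    MorphismProperty.of_isPullback (P := @LocallyOfFiniteType) (isPullback_stageMap D g₀ f₀ o) inferInstance
  have : CompactSpace (stage D g₀ o) := compactSpace_stage D g₀ o
  obtain ⟨j, hj⟩ := exists_isClosedImmersion_of_isAffineHom D c hc (i₀ := o.left)
    (stageMap D g₀ f₀ o) (toStage D g₀ o) (isPullback_proj D g₀ c hY o)
    (isPullback_proj_stageMap D g₀ c hY f₀ hX o)
  exact exists_stageMap_of_descend D f₀ g₀ @IsClosedImmersion (exists_descend_of_rebase D f₀ g₀ @IsClosedImmersion o j hj)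

include hc hY hX in
/-- finite morphisms descend; only the target needs to be quasi-compact -/
theorem exists_isFinite_of_compactSpace [CompactSpace Y₀] [QuasiCompact f₀] [QuasiSeparated f₀]
    [LocallyOfFiniteType f₀] [IsFinite f] :
    ∃ j : Over i₀, IsFinite (stageMap D g₀ f₀ j) := by
  obtain ⟨o, ho⟩ := exists_isAffineHom_of_compactSpace D c hc f₀ g₀ hY hX
  have : LocallyOfFiniteType (stageMap D g₀ f₀ o) :=
    MorphismProperty.of_isPullback (P := @LocallyOfFiniteType) (isPullback_stageMap D g₀ f₀ o) inferInstance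
  have : CompactSpace (stage D g₀ o) := compactSpace_stage D g₀ o
  obtain ⟨j, hj⟩ := exists_isFinite_of_isAffineHom D c hc (i₀ := o.left)
    (stageMap D g₀ f₀ o) (toStage D g₀ o) (isPullback_proj D g₀ c hY o)
    (isPullback_proj_stageMap D g₀ c hY f₀ hX o)
  exact exists_stageMap_of_descend D f₀ g₀ @IsFinite (exists_descend_of_rebase D f₀ g₀ @IsFinite o j hj)

include hc hY hX in
/-- separated morphisms descend; only the target needs to be quasi-compact -/
theorem exists_isSeparated_of_compactSpace [CompactSpace Y₀] [QuasiCompact f₀] [QuasiSeparated f₀] [IsSeparated f] :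
    ∃ j : Over i₀, IsSeparated (stageMap D g₀ f₀ j) := by
  have : CompactSpace ↥(pullback f₀ f₀) := QuasiCompact.compactSpace_of_compactSpace (pullback.fst f₀ f₀ ≫ f₀)
  let gP := pullback.fst f₀ f₀ ≫ f₀ ≫ g₀
  let δ := pullback.diagonal f₀
  have hδ : δ ≫ gP = f₀ ≫ g₀ := by simp [δ, gP, pullback.lift_fst_assoc]
  have hXS := isPullback_comp D g₀ c hY f₀ hX
  -- the diagonal of the limit
  let qP : pullback f f ⟶ pullback f₀ f₀ := pullback.map f f f₀ f₀ qX qX qY hX.w.symm hX.w.symm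
  have hq1 : qP ≫ pullback.fst f₀ f₀ = pullback.fst f f ≫ qX := pullback.lift_fst _ _ _
  have hq2 : qP ≫ pullback.snd f₀ f₀ = pullback.snd f f ≫ qX := pullback.lift_snd _ _ _
  have hP : IsPullback qP (pullback.fst f f) (pullback.fst f₀ f₀) qX := by
    have h1 : IsPullback (pullback.snd f f ≫ qX) (pullback.fst f f) f₀ (qX ≫ f₀) := by
      rw [hX.w]
      exact ((IsPullback.of_hasPullback f f).flip.paste_horiz hX)
    rw [← hq2] at h1
    exact h1.of_right hq1 (IsPullback.of_hasPullback f₀ f₀).flip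
  have hPS : IsPullback qP (pullback.fst f f ≫ f ≫ g) gP (c.π.app i₀) := hP.paste_vert hXS
  have hD : IsPullback qX (pullback.diagonal f) δ qP := by
    refine IsPullback.of_bot ?_ ?_ hP
    · simp only [δ, pullback.diagonal_fst]
      exact IsPullback.of_vert_isIso ⟨by simp⟩
    · apply pullback.hom_ext <;> simp [δ, hq1, hq2, pullback.lift_fst_assoc, pullback.lift_snd_assoc]
  obtain ⟨j, hj⟩ := exists_isClosedImmersion_of_compactSpace D c hc δ gP hPS hD
  refine ⟨j, ⟨?_⟩⟩
  have hb := isPullback_stageMap D g₀ f₀ j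
  let π := pullback.map (stageMap D g₀ f₀ j) (stageMap D g₀ f₀ j) f₀ f₀ (toBase D (f₀ ≫ g₀) j) (toBase D (f₀ ≫ g₀) j)
    (toBase D g₀ j) hb.w.symm hb.w.symm
  have hπ1 : π ≫ pullback.fst f₀ f₀ = pullback.fst _ _ ≫ toBase D (f₀ ≫ g₀) j := pullback.lift_fst _ _ _
  have hπ2 : π ≫ pullback.snd f₀ f₀ = pullback.snd _ _ ≫ toBase D (f₀ ≫ g₀) j := pullback.lift_snd _ _ _
  have hπ : IsPullback π (pullback.fst _ _) (pullback.fst f₀ f₀) (toBase D (f₀ ≫ g₀) j) := by
    have h1 : IsPullback (pullback.snd (stageMap D g₀ f₀ j) (stageMap D g₀ f₀ j) ≫ toBase D (f₀ ≫ g₀) j)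
        (pullback.fst _ _) f₀ (toBase D (f₀ ≫ g₀) j ≫ f₀) := by
      rw [hb.w]
      exact ((IsPullback.of_hasPullback _ _).flip.paste_horiz hb)
    rw [← hπ2] at h1
    exact h1.of_right hπ1 (IsPullback.of_hasPullback f₀ f₀).flip
  have hπS : IsPullback π (pullback.fst _ _ ≫ toStage D (f₀ ≫ g₀) j) gP (D.map j.hom) :=
    hπ.paste_vert (isPullback_stage D (f₀ ≫ g₀) j)
  let e := hπS.isoIsPullback _ _ (isPullback_stage D gP j)
  have hΔ : IsPullback (toBase D (f₀ ≫ g₀) j) (pullback.diagonal (stageMap D g₀ f₀ j)) δ π := by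
    refine IsPullback.of_bot ?_ ?_ hπ
    · simp only [δ, pullback.diagonal_fst]
      exact IsPullback.of_vert_isIso ⟨by simp⟩
    · apply pullback.hom_ext <;> simp [δ, hπ1, hπ2, pullback.lift_fst_assoc, pullback.lift_snd_assoc]
  have hΔ' : IsPullback (toBase D (f₀ ≫ g₀) j) (pullback.diagonal (stageMap D g₀ f₀ j) ≫ e.hom) δ (toBase D gP j) :=
    hΔ.of_iso (Iso.refl _) (Iso.refl _) e (Iso.refl _) (by simp) (by simp) (by simp) (by simp [e])
  have h5 : IsClosedImmersion (pullback.diagonal (stageMap D g₀ f₀ j) ≫ e.hom) := by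
    rw [← hΔ'.isoIsPullback_hom_snd _ _ (isPullback_stageMap D gP δ j)]
    exact (MorphismProperty.cancel_left_of_respectsIso @IsClosedImmersion _ _).2 hj
  exact (MorphismProperty.cancel_right_of_respectsIso @IsClosedImmersion _ _).1 h5

end Groth.Agent.LimMore
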