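import Groth.Agent.LimMore.Smooth

/-!
Properties local at a point of the source descend along cofiltered limits; the `iff` forms.
-/

set_option autoImplicit false
universe u
open CategoryTheory CategoryTheory.Limits AlgebraicGeometry

namespace Groth.Agent.LimMore

open LimDesc

/-- a property which descends to a stage -/
def DescendsToStage (P : MorphismProperty Scheme.{u}) : Prop :=
  ∀ {I : Type u} [SmallCategory I] [IsCofiltered I] (D : I ⥤ Scheme.{u}) [∀ {i j} (f : i ⟶ j), IsAffineHom (D.map f)]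
    {i₀ : I} (c : Cone D) (_ : IsLimit c) {X₀ Y₀ : Scheme.{u}} (f₀ : X₀ ⟶ Y₀) (g₀ : Y₀ ⟶ D.obj i₀)
    {X Y : Scheme.{u}} {f : X ⟶ Y} {g : Y ⟶ c.pt} {qY : Y ⟶ Y₀} {qX : X ⟶ X₀}
    (_ : IsPullback qY g g₀ (c.π.app i₀)) (_ : IsPullback qX f f₀ qY) [CompactSpace X₀]
    [LocallyOfFinitePresentation f₀], P f → ∃ j : Over i₀, P (stageMap D g₀ f₀ j)

theorem descendsToStage_smooth : DescendsToStage.{u} @Smooth :=
  fun D _ _ c hc _ _ f₀ g₀ _ _ _ _ _ _ hY hX _ _ h => haveI := h; exists_smooth D c hc f₀ g₀ hY hX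

theorem descendsToStage_formallyUnramified : DescendsToStage.{u} @FormallyUnramified :=
  fun D _ _ c hc _ _ f₀ g₀ _ _ _ _ _ _ hY hX _ _ h => haveI := h; exists_formallyUnramified D c hc f₀ g₀ hY hX

theorem descendsToStage_etale : DescendsToStage.{u} @Etale :=
  fun D _ _ c hc _ _ f₀ g₀ _ _ _ _ _ _ hY hX _ _ h => haveI := h; exists_etale D c hc f₀ g₀ hY hX

theorem descendsToStage_flat : DescendsToStage.{u} @Flat :=
  fun D _ _ c hc _ _ f₀ g₀ _ _ _ _ _ _ hY hX _ _ h => haveI := h; FlatSpread.exists_flat D c hc f₀ g₀ hY hX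

variable (P : MorphismProperty Scheme.{u}) [P.IsStableUnderBaseChange] [P.RespectsIso]
variable {I : Type u} [SmallCategory I] [IsCofiltered I] (D : I ⥤ Scheme.{u})
  [∀ {i j} (f : i ⟶ j), IsAffineHom (D.map f)] {i₀ : I}
variable (c : Cone D) (hc : IsLimit c)
variable {X₀ Y₀ : Scheme.{u}} (f₀ : X₀ ⟶ Y₀) (g₀ : Y₀ ⟶ D.obj i₀)
variable {X Y : Scheme.{u}} {f : X ⟶ Y} {g : Y ⟶ c.pt} {qY : Y ⟶ Y₀} {qX : X ⟶ X₀}
variable (hY : IsPullback qY g g₀ (c.π.app i₀)) (hX : IsPullback qX f f₀ qY)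

omit [IsCofiltered I] [∀ {i j} (f : i ⟶ j), IsAffineHom (D.map f)] in
include hY hX in
/-- a property at a stage holds at the limit -/
theorem of_descend
    (h : ∃ (i : I) (φ : i ⟶ i₀) (Xi Yi : Scheme.{u}) (fi : Xi ⟶ Yi) (gi : Yi ⟶ D.obj i) (pY : Yi ⟶ Y₀)
      (pX : Xi ⟶ X₀), IsPullback pY gi g₀ (D.map φ) ∧ IsPullback pX fi f₀ pY ∧ P fi) : P f := by
  obtain ⟨j, hj⟩ := exists_stageMap_of_descend D f₀ g₀ P h
  exact P.of_isPullback (isPullback_proj_stageMap D g₀ c hY f₀ hX j) hj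

include hc hY hX in
/-- the global statement as an equivalence -/
theorem iff_descend (hP : DescendsToStage P) [CompactSpace X₀] [LocallyOfFinitePresentation f₀] :
    P f ↔ ∃ (i : I) (φ : i ⟶ i₀) (Xi Yi : Scheme.{u}) (fi : Xi ⟶ Yi) (gi : Yi ⟶ D.obj i) (pY : Yi ⟶ Y₀)
      (pX : Xi ⟶ X₀), IsPullback pY gi g₀ (D.map φ) ∧ IsPullback pX fi f₀ pY ∧ P fi :=
  ⟨fun h => let ⟨j, hj⟩ := hP D c hc f₀ g₀ hY hX h; exists_descend D g₀ f₀ P j hj,
    of_descend P D c f₀ g₀ hY hX⟩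

include hc hY hX in
/-- the pointwise statement as an equivalence -/
theorem iff_descend_at (hP : DescendsToStage P)
    (hsrc : ∀ {A B C : Scheme.{u}} (a : A ⟶ B) (b : B ⟶ C) [IsOpenImmersion a], P b → P (a ≫ b))
    [LocallyOfFinitePresentation f₀] (x : X) :
    (∃ U : X.Opens, x ∈ U ∧ P (U.ι ≫ f)) ↔
      ∃ (j : I) (φ : j ⟶ i₀) (Xj Yj : Scheme.{u}) (fj : Xj ⟶ Yj) (gj : Yj ⟶ D.obj j) (pY : Yj ⟶ Y₀)
        (pX : Xj ⟶ X₀) (rX : X ⟶ Xj), IsPullback pY gj g₀ (D.map φ) ∧ IsPullback pX fj f₀ pY ∧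
          rX ≫ pX = qX ∧ rX ≫ fj ≫ gj = f ≫ g ≫ c.π.app j ∧ ∃ V : Xj.Opens, rX.base x ∈ V ∧ P (V.ι ≫ fj) := by
  have hXS := isPullback_comp D g₀ c hY f₀ hX
  constructor
  · rintro ⟨U, hxU, hU⟩
    have : ∀ {i j : Over i₀} (a : i ⟶ j), IsAffineHom ((tower D (f₀ ≫ g₀)).map a) :=
      fun a => isAffineHom_tower_map D (f₀ ≫ g₀) a
    obtain ⟨_, ⟨_, ⟨k, V, hV, rfl⟩, rfl⟩, hxV, hVU⟩ := (isBasis_preimage_isAffineOpen (tower D (f₀ ≫ g₀))
      (towerCone D (f₀ ≫ g₀) c hXS) (isLimitTowerCone D (f₀ ≫ g₀) c hXS hc)).exists_subset_of_mem_open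
      (show x ∈ (U : Set X) from hxU) U.2
    let V' : (stage D (f₀ ≫ g₀) k).Opens := V
    have : CompactSpace V' := isCompact_iff_compactSpace.mp hV.isCompact
    let fk := stageMap D g₀ f₀ k
    have : LocallyOfFinitePresentation fk :=
      MorphismProperty.of_isPullback (P := @LocallyOfFinitePresentation) (isPullback_stageMap D g₀ f₀ k) inferInstance
    let W : X.Opens := proj D (f₀ ≫ g₀) c hXS k ⁻¹ᵁ V'
    have hWU : W ≤ U := hVU
    have hW : P (W.ι ≫ f) := by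
      rw [← X.homOfLE_ι hWU, Category.assoc]
      exact hsrc _ _ hU
    have hXk := isPullback_proj_stageMap D g₀ c hY f₀ hX k
    have hYk := isPullback_proj D g₀ c hY k
    have hX' := (isPullback_morphismRestrict (proj D (f₀ ≫ g₀) c hXS k) V').paste_vert hXk
    obtain ⟨j, hj⟩ := hP D c hc (i₀ := k.left) (V'.ι ≫ fk) (toStage D g₀ k) hYk hX' hW
    refine ⟨j.left, j.hom ≫ k.hom, _, _, stageMap D (toStage D g₀ k) fk j, toStage D (toStage D g₀ k) j,
      toBase D (toStage D g₀ k) j ≫ toBase D g₀ k,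
      toBase D (fk ≫ toStage D g₀ k) j ≫ toBase D (f₀ ≫ g₀) k,
      proj D (fk ≫ toStage D g₀ k) c (isPullback_comp D (toStage D g₀ k) c hYk fk hXk) j, ?_, ?_, ?_, ?_, ?_⟩
    · rw [D.map_comp]
      exact (isPullback_stage D (toStage D g₀ k) j).paste_horiz (isPullback_stage D g₀ k)
    · exact (isPullback_stageMap D (toStage D g₀ k) fk j).paste_horiz (isPullback_stageMap D g₀ f₀ k)
    · rw [proj_toBase_assoc, proj_toBase]
    · refine (congrArg (proj D (fk ≫ toStage D g₀ k) c (isPullback_comp D (toStage D g₀ k) c hYk fk hXk) j ≫ ·) (stageMap_toStage D (toStage D g₀ k) fk j)).trans ?_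
      exact (proj_toStage D (fk ≫ toStage D g₀ k) c _ j).trans (Category.assoc _ _ _)
    · refine ⟨toBase D (fk ≫ toStage D g₀ k) j ⁻¹ᵁ V', ?_, ?_⟩
      · change toBase D (fk ≫ toStage D g₀ k) j
          (proj D (fk ≫ toStage D g₀ k) c (isPullback_comp D (toStage D g₀ k) c hYk fk hXk) j x) ∈ V'
        rw [← Scheme.Hom.comp_apply, proj_toBase]
        exact hxV
      · have h1 := (isPullback_morphismRestrict (toBase D (fk ≫ toStage D g₀ k) j) V').paste_vert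
          (isPullback_stageMap D (toStage D g₀ k) fk j)
        rw [← h1.isoIsPullback_hom_snd _ _ (isPullback_stageMap D (toStage D g₀ k) (V'.ι ≫ fk) j)]
        exact (P.cancel_left_of_respectsIso _ _).2 hj
  · rintro ⟨j, φ, Xj, Yj, fj, gj, pY, pX, rX, h1, h2, h3, h4, V, hxV, hV⟩
    refine ⟨rX ⁻¹ᵁ V, hxV, ?_⟩
    let rY : Y ⟶ Yj := h1.lift qY (g ≫ c.π.app j) (by rw [Category.assoc, c.w φ, hY.w])
    have hrY1 : rY ≫ pY = qY := h1.lift_fst _ _ _
    have hrY2 : rY ≫ gj = g ≫ c.π.app j := h1.lift_snd _ _ _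
    have hcomm : rX ≫ fj = f ≫ rY := by
      refine h1.hom_ext ?_ ?_
      · rw [Category.assoc, Category.assoc, hrY1, ← h2.w, reassoc_of% h3, hX.w]
      · rw [Category.assoc, Category.assoc, hrY2]; exact h4
    have hsq : IsPullback rX f fj rY := by
      refine IsPullback.of_right ?_ hcomm h2
      rw [h3, hrY1]
      exact hX
    exact P.of_isPullback ((isPullback_morphismRestrict rX V).paste_vert hsq) hV

end Groth.Agent.LimMore
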