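import Groth.Agent.LimMore.Compact
import Groth.Agent.LimMore.Local

/-!
Morphisms into the base of the system.
-/

set_option autoImplicit false
universe u
open CategoryTheory CategoryTheory.Limits AlgebraicGeometry

namespace Groth.Agent.LimMore

open LimDesc

variable {I : Type u} [SmallCategory I] (D : I ⥤ Scheme.{u}) {i₀ : I}
variable {Z₀ : Scheme.{u}} (ι₀ : Z₀ ⟶ D.obj i₀)

theorem stageMap_id_iff (P : MorphismProperty Scheme.{u}) [P.RespectsIso] (j : Over i₀) :
    P (stageMap D (𝟙 (D.obj i₀)) ι₀ j) ↔ P (pullback.snd ι₀ (D.map j.hom)) := by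
  have h := isPullback_stage D (𝟙 (D.obj i₀)) j
  have : IsIso (toStage D (𝟙 (D.obj i₀)) j) := h.isIso_snd_of_isIso
  have h2 : IsPullback (toBase D (ι₀ ≫ 𝟙 _) j) (stageMap D (𝟙 (D.obj i₀)) ι₀ j ≫ toStage D (𝟙 (D.obj i₀)) j)
      ι₀ (D.map j.hom) := by
    have := (isPullback_stageMap D (𝟙 (D.obj i₀)) ι₀ j).paste_vert h
    simpa using this
  rw [← P.cancel_right_of_respectsIso (stageMap D (𝟙 (D.obj i₀)) ι₀ j) (toStage D (𝟙 (D.obj i₀)) j),
    ← h2.isoIsPullback_hom_snd _ _ (IsPullback.of_hasPullback ι₀ (D.map j.hom)),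
    P.cancel_left_of_respectsIso]

/-- the property at the limit follows from the property at a stage -/
theorem pullback_snd_of_stage (c : Cone D) (P : MorphismProperty Scheme.{u}) [P.IsStableUnderBaseChange]
    [P.RespectsIso] {j : I} (φ : j ⟶ i₀) (h : P (pullback.snd ι₀ (D.map φ))) :
    P (pullback.snd ι₀ (c.π.app i₀)) := by
  let r : pullback ι₀ (c.π.app i₀) ⟶ pullback ι₀ (D.map φ) :=
    pullback.lift (pullback.fst _ _) (pullback.snd _ _ ≫ c.π.app j) (by rw [Category.assoc, c.w φ, pullback.condition])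
  have hr : IsPullback r (pullback.snd ι₀ (c.π.app i₀)) (pullback.snd ι₀ (D.map φ)) (c.π.app j) := by
    refine IsPullback.of_right ?_ (pullback.lift_snd _ _ _) (IsPullback.of_hasPullback ι₀ (D.map φ))
    rw [pullback.lift_fst, c.w φ]
    exact IsPullback.of_hasPullback _ _
  exact P.of_isPullback hr h

theorem isPullback_id (c : Cone D) :
    IsPullback (c.π.app i₀) (𝟙 c.pt) (𝟙 (D.obj i₀)) (c.π.app i₀) :=
  have : IsIso (𝟙 c.pt) := inferInstanceAs (IsIso (𝟙 _))
  IsPullback.of_vert_isIso ⟨by simp⟩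

end Groth.Agent.LimMore
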