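import Groth.Agent.LimMore.SepCore

/-!
If the limit of a system of schemes over `S` is separated over `S`, so are the stages.
-/

set_option autoImplicit false
universe u
open CategoryTheory CategoryTheory.Limits AlgebraicGeometry

namespace Groth.Agent.LimMore

variable {I : Type u} [SmallCategory I] [IsCofiltered I]

theorem resLE_homOfLE_comm {X Y : Scheme.{u}} (f : X ⟶ Y) {U U' : Y.Opens} {V V' : X.Opens} (e : V ≤ f ⁻¹ᵁ U)
    (e' : V' ≤ f ⁻¹ᵁ U') (hU : U ≤ U') (hV : V ≤ V') :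
    f.resLE U V e ≫ Y.homOfLE hU = X.homOfLE hV ≫ f.resLE U' V' e' := by
  rw [Scheme.Hom.resLE_map, Scheme.Hom.map_resLE]

theorem exists_isSeparated_over_of_isAffine {S : Scheme.{u}} [IsAffine S] (D : I ⥤ Scheme.{u})
    [∀ {i j} (f : i ⟶ j), IsAffineHom (D.map f)] [∀ i, CompactSpace (D.obj i)]
    [∀ i, QuasiSeparatedSpace (D.obj i)] (t : ∀ i, D.obj i ⟶ S)
    (ht : ∀ {i j : I} (f : i ⟶ j), D.map f ≫ t j = t i) (c : Cone D) (hc : IsLimit c)
    (i₀ : I) [IsSeparated (c.π.app i₀ ≫ t i₀)] :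
    ∃ i₁ : I, ∀ i : I, (i ⟶ i₁) → IsSeparated (t i) := by
  classical
  let q : c.pt ⟶ S := c.π.app i₀ ≫ t i₀
  have hq : IsSeparated q := ‹_›
  have : c.pt.IsSeparated := ⟨by
    rw [← terminal.comp_from q]
    exact IsSeparated.stableUnderComposition.comp_mem _ _ hq inferInstance⟩
  have := isAffineHom_π_app D c hc
  let 𝒰 := (D.obj i₀).affineCover.finiteSubcover
  let U (a : 𝒰.I₀) : (D.obj i₀).Opens := (𝒰.f a).opensRange
  have hU (a) : IsAffineOpen (U a) := by
    have : IsAffine (𝒰.X a) := by dsimp [𝒰]; infer_instance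
    exact isAffineOpen_opensRange _
  have hcov : TopologicalSpace.IsOpenCover U := 𝒰.iSup_opensRange
  -- intersections become affine
  have h1 : ∀ ab : 𝒰.I₀ × 𝒰.I₀, ∃ k : Over i₀, IsAffineOpen (D.map k.hom ⁻¹ᵁ (U ab.1 ⊓ U ab.2)) := by
    rintro ⟨a, b⟩
    have hW : IsCompact ((U a ⊓ U b : (D.obj i₀).Opens) : Set (D.obj i₀)) :=
      (QuasiSeparatedSpace.inter_isCompact _ _ (U a).2 (hU a).isCompact (U b).2 (hU b).isCompact)
    have (k : Over i₀) : CompactSpace ((opensDiagram D i₀ (U a ⊓ U b)).obj k) :=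
      isCompact_iff_compactSpace.mp (QuasiCompact.isCompact_preimage (f := D.map k.hom) _ (U a ⊓ U b).2 hW)
    have (k : Over i₀) : QuasiSeparatedSpace ((opensDiagram D i₀ (U a ⊓ U b)).obj k) :=
      (isQuasiSeparated_iff_quasiSeparatedSpace _ (D.map k.hom ⁻¹ᵁ (U a ⊓ U b)).2).mp (.of_quasiSeparatedSpace _)
    have : IsAffine (opensCone D c i₀ (U a ⊓ U b)).pt :=
      show IsAffineOpen (c.π.app i₀ ⁻¹ᵁ (U a ⊓ U b)) from
        IsAffineOpen.inf (X := c.pt) ((hU a).preimage (c.π.app i₀)) ((hU b).preimage (c.π.app i₀))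
    exact Scheme.exists_isAffine_of_isLimit _ _ (isLimitOpensCone D c hc i₀ (U a ⊓ U b))
  choose k hk using h1
  cases nonempty_fintype 𝒰.I₀
  obtain ⟨m', hm'⟩ := IsCofiltered.inf_objs_exists (insert (Over.mk (𝟙 i₀)) (Finset.univ.image k))
  let m : I := m'.left
  let φ : m ⟶ i₀ := m'.hom
  let V (a : 𝒰.I₀) : (D.obj m).Opens := D.map φ ⁻¹ᵁ U a
  have hV (a) : IsAffineOpen (V a) := (hU a).preimage _
  have hVi (a b) : IsAffineOpen (V a ⊓ V b) := by
    have e : m' ⟶ k (a, b) := (hm' (Finset.mem_insert_of_mem (Finset.mem_image_of_mem _ (Finset.mem_univ (a, b))))).some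
    have : D.map φ ⁻¹ᵁ (U a ⊓ U b) = V a ⊓ V b := rfl
    rw [← this, show φ = e.left ≫ (k (a, b)).hom from (Over.w e).symm, D.map_comp, Scheme.Hom.comp_preimage]
    exact (hk (a, b)).preimage _
  -- generation
  have h2 : ∀ ab : 𝒰.I₀ × 𝒰.I₀, ∃ j : Over m, ∀ l : Over m, (l ⟶ j) →
      Gen ((D.obj l.left).homOfLE (inf_le_left : D.map l.hom ⁻¹ᵁ V ab.1 ⊓ D.map l.hom ⁻¹ᵁ V ab.2 ≤ _))
        ((D.obj l.left).homOfLE (inf_le_right : D.map l.hom ⁻¹ᵁ V ab.1 ⊓ D.map l.hom ⁻¹ᵁ V ab.2 ≤ _)) := by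
    rintro ⟨a, b⟩
    let α : opensDiagram D m (V a ⊓ V b) ⟶ opensDiagram D m (V a) :=
    { app := fun l => (D.obj l.left).homOfLE (show D.map l.hom ⁻¹ᵁ (V a ⊓ V b) ≤ D.map l.hom ⁻¹ᵁ V a from
        fun x hx => hx.1)
      naturality := fun l l' e => by simp [opensDiagram] }
    let β : opensDiagram D m (V a ⊓ V b) ⟶ opensDiagram D m (V b) :=
    { app := fun l => (D.obj l.left).homOfLE (show D.map l.hom ⁻¹ᵁ (V a ⊓ V b) ≤ D.map l.hom ⁻¹ᵁ V b from
        fun x hx => hx.2)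
      naturality := fun l l' e => by simp [opensDiagram] }
    have (l : Over m) : IsAffine ((opensDiagram D m (V a ⊓ V b)).obj l) := (hVi a b).preimage (D.map l.hom)
    have (l : Over m) : IsAffine ((opensDiagram D m (V a)).obj l) := (hV a).preimage (D.map l.hom)
    have (l : Over m) : IsAffine ((opensDiagram D m (V b)).obj l) := (hV b).preimage (D.map l.hom)
    have hgen := gen_of_isSeparated (terminal.from c.pt) ((hV a).preimage (c.π.app m)) ((hV b).preimage (c.π.app m))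
    have : ∀ l : Over m, IsOpenImmersion (α.app l) := fun l => inferInstanceAs (IsOpenImmersion
      ((D.obj l.left).homOfLE (show D.map l.hom ⁻¹ᵁ (V a ⊓ V b) ≤ D.map l.hom ⁻¹ᵁ V a from fun x hx => hx.1)))
    exact exists_gen α β (opensCone D c m (V a ⊓ V b)) (isLimitOpensCone D c hc m _)
      (opensCone D c m (V a)) (isLimitOpensCone D c hc m _) (opensCone D c m (V b)) (isLimitOpensCone D c hc m _)
      (c.pt.homOfLE (show c.π.app m ⁻¹ᵁ (V a ⊓ V b) ≤ c.π.app m ⁻¹ᵁ V a from fun x hx => hx.1))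
      (c.pt.homOfLE (show c.π.app m ⁻¹ᵁ (V a ⊓ V b) ≤ c.π.app m ⁻¹ᵁ V b from fun x hx => hx.2))
      (fun l => resLE_homOfLE_comm (c.π.app l.left) _ _ (by exact fun x hx => hx.1) _) (fun l => resLE_homOfLE_comm (c.π.app l.left) _ _ (by exact fun x hx => hx.2) _) hgen
      (fun {l l'} e => by
        refine IsOpenImmersion.isPullback _ _ _ _ (α.naturality e).symm ?_
        simp only [α, opensDiagram, Scheme.opensRange_homOfLE]
        ext x
        simp only [← Scheme.Hom.comp_preimage, Scheme.Hom.resLE_comp_ι]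
        rw [Scheme.Hom.comp_preimage, Scheme.Hom.comp_preimage]
        simp only [← Scheme.Hom.comp_preimage, Scheme.Hom.resLE_comp_ι_assoc, ← D.map_comp, Over.w e]
        )
      (Over.mk (𝟙 m))
  choose j hj using h2
  obtain ⟨n, hn⟩ := IsCofiltered.inf_objs_exists (insert (Over.mk (𝟙 m)) (Finset.univ.image j))
  refine ⟨n.left, fun i e => ?_⟩
  let l : Over m := Over.mk (e ≫ n.hom)
  refine isSeparated_of_cover (t i) (fun a => D.map l.hom ⁻¹ᵁ V a) ?_ (fun a => (hV a).preimage _)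
    (fun a b => (hVi a b).preimage (D.map l.hom)) (fun a b => ?_)
  · show ⨆ a, D.map l.hom ⁻¹ᵁ V a = ⊤
    rw [← Scheme.Hom.preimage_iSup, ← Scheme.Hom.preimage_iSup, show ⨆ a, U a = ⊤ from hcov]
    rfl
  · have e' : n ⟶ j (a, b) := (hn (Finset.mem_insert_of_mem (Finset.mem_image_of_mem _ (Finset.mem_univ (a, b))))).some
    exact hj (a, b) l (Over.homMk e (by simp [l]) ≫ e')

theorem exists_isSeparated_over {S : Scheme.{u}} [QuasiSeparatedSpace S] (D : I ⥤ Scheme.{u})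
    [∀ {i j} (f : i ⟶ j), IsAffineHom (D.map f)] [∀ i, CompactSpace (D.obj i)]
    [∀ i, QuasiSeparatedSpace (D.obj i)] (t : ∀ i, D.obj i ⟶ S)
    (ht : ∀ {i j : I} (f : i ⟶ j), D.map f ≫ t j = t i) (c : Cone D) (hc : IsLimit c)
    (i₀ : I) [IsSeparated (c.π.app i₀ ≫ t i₀)] :
    ∃ i₁ : I, ∀ i : I, (i ⟶ i₁) → IsSeparated (t i) := by
  classical
  obtain ⟨s, hs⟩ := (isCompact_range ((t i₀)).continuous).elim_finite_subcover
    (fun W : S.affineOpens => ((W : S.Opens) : Set S)) (fun W => (W : S.Opens).2)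
    (fun y _ => by
      obtain ⟨_, ⟨W, hW, rfl⟩, hyW, -⟩ := S.isBasis_affineOpens.exists_subset_of_mem_open (Set.mem_univ y) isOpen_univ
      exact Set.mem_iUnion.2 ⟨⟨W, hW⟩, hyW⟩)
  have key : ∀ W : s, ∃ j : Over i₀, ∀ l : Over i₀, (l ⟶ j) → IsSeparated ((t l.left) ∣_ (W.1 : S.Opens)) := by
    rintro ⟨W, hWs⟩
    let P : (D.obj i₀).Opens := (t i₀) ⁻¹ᵁ W
    have : QuasiCompact ((t i₀)) := quasiCompact_of_compactSpace _
    have hPc : IsCompact (P : Set (D.obj i₀)) := QuasiCompact.isCompact_preimage _ W.1.2 W.2.isCompact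
    have (k : Over i₀) : CompactSpace ((opensDiagram D i₀ P).obj k) :=
      isCompact_iff_compactSpace.mp (QuasiCompact.isCompact_preimage (f := D.map k.hom) _ P.2 hPc)
    have (k : Over i₀) : QuasiSeparatedSpace ((opensDiagram D i₀ P).obj k) :=
      (isQuasiSeparated_iff_quasiSeparatedSpace _ (D.map k.hom ⁻¹ᵁ P).2).mp (.of_quasiSeparatedSpace _)
    have hnat : ∀ k : Over i₀, D.map k.hom ≫ (t i₀) = (t k.left) := fun k => ht k.hom
    let t' : ∀ k : Over i₀, (opensDiagram D i₀ P).obj k ⟶ (W : S.Opens).toScheme := fun k =>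
      (t k.left).resLE W (D.map k.hom ⁻¹ᵁ P) (by rw [← hnat k]; rfl)
    have ht' : ∀ {k k' : Over i₀} (e : k ⟶ k'), (opensDiagram D i₀ P).map e ≫ t' k' = t' k := fun {k k'} e => by
      simp only [t', opensDiagram, Scheme.Hom.resLE_comp_resLE, ht]
    have : IsAffine (W : S.Opens).toScheme := W.2
    have : IsSeparated ((opensCone D c i₀ P).π.app (Over.mk (𝟙 i₀)) ≫ t' (Over.mk (𝟙 i₀))) := by
      simp only [opensCone, t']
      erw [Scheme.Hom.resLE_comp_resLE]
      exact (inferInstance : IsSeparated ((c.π.app i₀ ≫ t i₀).resLE _ _ _))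
    obtain ⟨j, hj⟩ := exists_isSeparated_over_of_isAffine (opensDiagram D i₀ P) t' ht' (opensCone D c i₀ P)
      (isLimitOpensCone D c hc i₀ P) (Over.mk (𝟙 i₀))
    refine ⟨j, fun l e => ?_⟩
    have h := hj l e
    have e1 : D.map l.hom ⁻¹ᵁ P = (t l.left) ⁻¹ᵁ (W : S.Opens) := by
      rw [← hnat l]; rfl
    change IsSeparated (((t l.left)).resLE _ _ _) at h
    rw [Scheme.Hom.resLE_congr ((t l.left)) _ rfl e1 @IsSeparated] at h
    simpa [Scheme.Hom.resLE_eq_morphismRestrict] using h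
  choose j hj using key
  obtain ⟨n, hn⟩ := IsCofiltered.inf_objs_exists (insert (Over.mk (𝟙 i₀)) (Finset.univ.image j))
  refine ⟨n.left, fun i e => ?_⟩
  let l : Over i₀ := Over.mk (e ≫ n.hom)
  have : MorphismProperty.RespectsRight (@IsSeparated : MorphismProperty Scheme.{u}) @IsOpenImmersion :=
    ⟨fun g (_ : IsOpenImmersion g) f (_ : IsSeparated f) => inferInstanceAs (IsSeparated (f ≫ g))⟩
  refine IsZariskiLocalAtTarget.of_range_subset_iSup (P := @IsSeparated) (fun W : s => (W.1 : S.Opens)) ?_ fun W =>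
    hj W l (Over.homMk e (by simp [l]) ≫ (hn (Finset.mem_insert_of_mem (Finset.mem_image_of_mem _ (Finset.mem_univ W)))).some)
  rintro _ ⟨x, rfl⟩
  have h1 : t i = D.map l.hom ≫ (t i₀) := (ht l.hom).symm
  obtain ⟨W, hW, hxW⟩ := Set.mem_iUnion₂.1 (hs (Set.mem_range_self (D.map l.hom x)))
  simp only [TopologicalSpace.Opens.coe_iSup, Set.mem_iUnion]
  refine ⟨⟨W, hW⟩, ?_⟩
  rw [h1]
  exact hxW

end Groth.Agent.LimMore
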