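import Mathlib

/-!
If the limit of a system of schemes over `S` is affine over `S`, so are the stages.
-/

set_option autoImplicit false
universe u
open CategoryTheory CategoryTheory.Limits AlgebraicGeometry

namespace Groth.Agent.LimMore

theorem exists_isAffineHom_over {I : Type u} [SmallCategory I] [IsCofiltered I] {S : Scheme.{u}}
    [CompactSpace S] [QuasiSeparatedSpace S] (D : I ⥤ Scheme.{u})
    [∀ {i j} (f : i ⟶ j), IsAffineHom (D.map f)] [∀ i, CompactSpace (D.obj i)]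
    [∀ i, QuasiSeparatedSpace (D.obj i)] (t : ∀ i, D.obj i ⟶ S)
    (ht : ∀ {i j : I} (f : i ⟶ j), D.map f ≫ t j = t i) (c : Cone D) (hc : IsLimit c)
    (i₀ : I) [IsAffineHom (c.π.app i₀ ≫ t i₀)] :
    ∃ i₁ : I, ∀ i : I, (i ⟶ i₁) → IsAffineHom (t i) := by
  classical
  let 𝒰 := S.affineCover.finiteSubcover
  let W (a : 𝒰.I₀) : S.Opens := (𝒰.f a).opensRange
  have hW (a) : IsAffineOpen (W a) := by
    have : IsAffine (𝒰.X a) := by dsimp [𝒰]; infer_instance
    exact isAffineOpen_opensRange _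
  let q : c.pt ⟶ S := c.π.app i₀ ≫ t i₀
  have hq : IsAffineHom q := ‹_›
  have key : ∀ a, ∃ k : Over i₀, IsAffineOpen (D.map k.hom ⁻¹ᵁ (t i₀ ⁻¹ᵁ W a)) := by
    intro a
    let P : (D.obj i₀).Opens := t i₀ ⁻¹ᵁ W a
    have hP : IsCompact (P : Set (D.obj i₀)) :=
      QuasiCompact.isCompact_preimage (f := t i₀) _ (W a).2 (hW a).isCompact
    have (k : Over i₀) : CompactSpace ((opensDiagram D i₀ P).obj k) :=
      isCompact_iff_compactSpace.mp (QuasiCompact.isCompact_preimage (f := D.map k.hom) _ P.2 hP)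
    have (k : Over i₀) : QuasiSeparatedSpace ((opensDiagram D i₀ P).obj k) :=
      (isQuasiSeparated_iff_quasiSeparatedSpace _ (D.map k.hom ⁻¹ᵁ P).2).mp (.of_quasiSeparatedSpace _)
    have : IsAffine (opensCone D c i₀ P).pt := show IsAffineOpen (q ⁻¹ᵁ W a) from (hW a).preimage q
    exact Scheme.exists_isAffine_of_isLimit _ _ (isLimitOpensCone D c hc i₀ P)
  choose k hk using key
  cases nonempty_fintype 𝒰.I₀
  obtain ⟨n, hn⟩ := IsCofiltered.inf_objs_exists (insert (Over.mk (𝟙 i₀)) (Finset.univ.image k))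
  refine ⟨n.left, fun i e => isAffineHom_of_forall_exists_isAffineOpen _ fun y => ?_⟩
  obtain ⟨a, z, hz⟩ := 𝒰.exists_eq y
  refine ⟨W a, ⟨z, hz⟩, hW a, ?_⟩
  let e' : Over.mk (e ≫ n.hom) ⟶ k a :=
    (Over.homMk e (by simp) : Over.mk (e ≫ n.hom) ⟶ n) ≫ (hn (Finset.mem_insert_of_mem (Finset.mem_image_of_mem _ (Finset.mem_univ a)))).some
  have h : t i ⁻¹ᵁ W a = D.map e'.left ⁻¹ᵁ (D.map (k a).hom ⁻¹ᵁ (t i₀ ⁻¹ᵁ W a)) := by
    rw [← Scheme.Hom.comp_preimage, ← Scheme.Hom.comp_preimage, ← D.map_comp, Over.w e']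
    simp only [Over.mk_hom, ht]; rfl
  rw [h]
  exact (hk a).preimage _

end Groth.Agent.LimMore
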