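import Groth.Agent.LimMore.AffScheme

/-!
If the limit of a system of schemes of finite type over `S` is a closed immersion / an immersion /
integral over `S`, then the stages are closed immersions / immersions / finite.
-/

set_option autoImplicit false
universe u
open CategoryTheory CategoryTheory.Limits AlgebraicGeometry

namespace Groth.Agent.LimMore

variable {I : Type u} [SmallCategory I] [IsCofiltered I]

theorem range_appTop_le_of_surjective {S : Scheme.{u}} [IsAffine S] (D : I ⥤ Scheme.{u}) [∀ i, IsAffine (D.obj i)]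
    (t : ∀ i, D.obj i ⟶ S) (ht : ∀ {i j : I} (f : i ⟶ j), D.map f ≫ t j = t i)
    (c : Cone D) (hc : IsLimit c) (o : I) (hsurj : Function.Surjective (c.π.app o ≫ t o).appTop.hom)
    (b : Γ(D.obj o, ⊤)) : ∃ (j : I) (e : j ⟶ o), (D.map e).appTop b ∈ (t j).appTop.hom.range := by
  obtain ⟨r, hr⟩ := hsurj ((c.π.app o).appTop b)
  obtain ⟨j, e, he⟩ := exists_appTop_map_eq_zero_of_isAffine_of_isLimit D c hc o (b - (t o).appTop r)
    (by rw [map_sub, sub_eq_zero, ← hr, Scheme.Hom.comp_appTop]; rfl)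
  rw [map_sub, sub_eq_zero] at he
  exact ⟨j, e, r, by rw [he, ← CommRingCat.comp_apply, ← Scheme.Hom.comp_appTop, ht e]⟩

theorem exists_isClosedImmersion_over_of_isAffine {S : Scheme.{u}} [IsAffine S] (D : I ⥤ Scheme.{u})
    [∀ {i j} (f : i ⟶ j), IsClosedImmersion (D.map f)] [∀ i, IsAffine (D.obj i)]
    (t : ∀ i, D.obj i ⟶ S) [∀ i, LocallyOfFiniteType (t i)]
    (ht : ∀ {i j : I} (f : i ⟶ j), D.map f ≫ t j = t i) (c : Cone D) (hc : IsLimit c)
    (o : I) [IsClosedImmersion (c.π.app o ≫ t o)] :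
    ∃ j : I, IsClosedImmersion (t j) := by
  classical
  let q : c.pt ⟶ S := c.π.app o ≫ t o
  have hq : IsClosedImmersion q := ‹_›
  have hft : (t o).appTop.hom.FiniteType :=
    (HasRingHomProperty.iff_of_isAffine (P := @LocallyOfFiniteType)).1 inferInstance
  algebraize [(t o).appTop.hom]
  obtain ⟨s, hs⟩ := (inferInstance : Algebra.FiniteType Γ(S, ⊤) Γ(D.obj o, ⊤)).out
  choose j e hje using range_appTop_le_of_surjective D t ht c hc o
    (IsClosedImmersion.isAffine_surjective_of_isAffine q).2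
  obtain ⟨m, mo, hm⟩ := IsCofiltered.inf_exists (insert o (s.image j))
    (by exact s.attach.image fun b => ⟨j b.1, o, Finset.mem_insert_of_mem (Finset.mem_image_of_mem _ b.2),
      Finset.mem_insert_self _ _, e b.1⟩)
  let a : m ⟶ o := mo (Finset.mem_insert_self _ _)
  refine ⟨m, IsClosedImmersion.of_surjective_of_isAffine _ fun y => ?_⟩
  obtain ⟨b, rfl⟩ := (IsClosedImmersion.isAffine_surjective_of_isAffine (D.map a)).2 y
  show _ ∈ (t m).appTop.hom.range
  have hb : b ∈ Algebra.adjoin Γ(S, ⊤) (s : Set Γ(D.obj o, ⊤)) := hs ▸ Algebra.mem_top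
  induction hb using Algebra.adjoin_induction with
  | mem x hx =>
    obtain ⟨r, hr⟩ := hje x
    refine ⟨r, ?_⟩
    have hm' := hm (Finset.mem_insert_of_mem (Finset.mem_image_of_mem _ hx)) (Finset.mem_insert_self _ _)
      (f := e x) (Finset.mem_image.2 ⟨⟨x, hx⟩, Finset.mem_attach _ _, rfl⟩)
    rw [show a = _ from hm'.symm, D.map_comp, Scheme.Hom.comp_appTop, CommRingCat.comp_apply, ← hr,
      ← CommRingCat.comp_apply, ← Scheme.Hom.comp_appTop, ht]
  | algebraMap r =>
    exact ⟨r, by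
      show _ = (D.map a).appTop ((t o).appTop r)
      rw [← CommRingCat.comp_apply, ← Scheme.Hom.comp_appTop, ht]⟩
  | add x y _ _ hx hy => rw [map_add]; exact add_mem hx hy
  | mul x y _ _ hx hy => rw [map_mul]; exact mul_mem hx hy

theorem exists_isFinite_over_of_isAffine {S : Scheme.{u}} [IsAffine S] (D : I ⥤ Scheme.{u})
    [∀ {i j} (f : i ⟶ j), IsFinite (D.map f)] [∀ i, IsAffine (D.obj i)]
    (t : ∀ i, D.obj i ⟶ S) [∀ i, LocallyOfFiniteType (t i)]
    (ht : ∀ {i j : I} (f : i ⟶ j), D.map f ≫ t j = t i) (c : Cone D) (hc : IsLimit c)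
    (o : I) [IsIntegralHom (c.π.app o ≫ t o)] :
    ∃ j : I, IsFinite (t j) := by
  classical
  let q : c.pt ⟶ S := c.π.app o ≫ t o
  have hq : IsIntegralHom q := ‹_›
  have : IsAffine c.pt := isAffine_of_isAffineHom q
  have hint : q.appTop.hom.IsIntegral :=
    ((HasAffineProperty.iff_of_isAffine (P := @IsIntegralHom)).1 hq).2
  have hft : (t o).appTop.hom.FiniteType :=
    (HasRingHomProperty.iff_of_isAffine (P := @LocallyOfFiniteType)).1 inferInstance
  have key : ∀ b : Γ(D.obj o, ⊤), ∃ (j : I) (e : j ⟶ o), (t j).appTop.hom.IsIntegralElem ((D.map e).appTop b) := by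
    intro b
    obtain ⟨p, hp, hpb⟩ := hint ((c.π.app o).appTop b)
    obtain ⟨j, e, he⟩ := exists_appTop_map_eq_zero_of_isAffine_of_isLimit D c hc o (p.eval₂ (t o).appTop.hom b)
      (by
        rw [Polynomial.hom_eval₂, ← CommRingCat.hom_comp, ← Scheme.Hom.comp_appTop]
        exact hpb)
    refine ⟨j, e, p, hp, ?_⟩
    rw [Polynomial.hom_eval₂, ← CommRingCat.hom_comp, ← Scheme.Hom.comp_appTop, ht e] at he
    exact he
  algebraize [(t o).appTop.hom]
  obtain ⟨s, hs⟩ := (inferInstance : Algebra.FiniteType Γ(S, ⊤) Γ(D.obj o, ⊤)).out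
  choose j e hje using key
  obtain ⟨m, mo, hm⟩ := IsCofiltered.inf_exists (insert o (s.image j))
    (by exact s.attach.image fun b => ⟨j b.1, o, Finset.mem_insert_of_mem (Finset.mem_image_of_mem _ b.2),
      Finset.mem_insert_self _ _, e b.1⟩)
  let a : m ⟶ o := mo (Finset.mem_insert_self _ _)
  refine ⟨m, ?_⟩
  have haff : (D.map a).appTop.hom.Finite :=
    ((HasAffineProperty.iff_of_isAffine (P := @IsFinite)).1 inferInstance).2
  have hgen : ∀ b, (t m).appTop.hom.IsIntegralElem ((D.map a).appTop b) := by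
    intro b
    have hb : b ∈ Algebra.adjoin Γ(S, ⊤) (s : Set Γ(D.obj o, ⊤)) := hs ▸ Algebra.mem_top
    induction hb using Algebra.adjoin_induction with
    | mem x hx =>
      have hm' := hm (Finset.mem_insert_of_mem (Finset.mem_image_of_mem _ hx)) (Finset.mem_insert_self _ _)
        (f := e x) (Finset.mem_image.2 ⟨⟨x, hx⟩, Finset.mem_attach _ _, rfl⟩)
      obtain ⟨p, hp, hpx⟩ := hje x
      refine ⟨p, hp, ?_⟩
      rw [show a = _ from hm'.symm, D.map_comp, Scheme.Hom.comp_appTop, CommRingCat.comp_apply]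
      have := congrArg (D.map (mo (Finset.mem_insert_of_mem (Finset.mem_image_of_mem _ hx)))).appTop.hom hpx
      rwa [map_zero, Polynomial.hom_eval₂, ← CommRingCat.hom_comp, ← Scheme.Hom.comp_appTop, ht] at this
    | algebraMap r =>
      rw [show (D.map a).appTop (algebraMap Γ(S, ⊤) Γ(D.obj o, ⊤) r) = (t m).appTop r by
        show (D.map a).appTop ((t o).appTop r) = _
        rw [← CommRingCat.comp_apply, ← Scheme.Hom.comp_appTop, ht]]
      exact RingHom.isIntegralElem_map _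
    | add x y _ _ hx hy => rw [map_add]; exact RingHom.IsIntegralElem.add _ hx hy
    | mul x y _ _ hx hy => rw [map_mul]; exact RingHom.IsIntegralElem.mul _ hx hy
  have hint' : (t m).appTop.hom.IsIntegral := fun y => by
    algebraize [(t m).appTop.hom, (D.map a).appTop.hom]
    let C := integralClosure Γ(S, ⊤) Γ(D.obj m, ⊤)
    obtain ⟨p, hp, hpy⟩ := haff.to_isIntegral y
    have hco : ∀ n, ((p.map (D.map a).appTop.hom).coeff n) ∈ C := fun n => by
      rw [Polynomial.coeff_map]; exact hgen _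
    refine isIntegral_trans (A := C) y ⟨(p.map (D.map a).appTop.hom).toSubring C.toSubring
      (fun z hz => by obtain ⟨n, -, rfl⟩ := Polynomial.mem_coeffs_iff.1 hz; exact hco n), ?_, ?_⟩
    · exact (Polynomial.monic_toSubring _ _ _).2 (hp.map _)
    · show Polynomial.eval₂ (Subring.subtype C.toSubring) y _ = 0
      rw [← Polynomial.eval_map, Polynomial.map_toSubring, Polynomial.eval_map]
      exact hpy
  have : IsAffineHom (t m) := inferInstance
  exact HasAffineProperty.iff_of_isAffine.mpr ⟨inferInstance,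
    RingHom.IsIntegral.to_finite hint' ((HasRingHomProperty.iff_of_isAffine (P := @LocallyOfFiniteType)).1 inferInstance)⟩

theorem exists_over_of_affine_case (P : MorphismProperty Scheme.{u}) [P.IsStableUnderBaseChange]
    [P.IsStableUnderComposition] [IsZariskiLocalAtTarget P]
    (hPa : P ≤ @IsAffineHom) {S : Scheme.{u}} [CompactSpace S] [QuasiSeparatedSpace S] (D : I ⥤ Scheme.{u})
    (hD : ∀ {i j} (f : i ⟶ j), P (D.map f)) [∀ i, CompactSpace (D.obj i)] [∀ i, QuasiSeparatedSpace (D.obj i)]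
    (t : ∀ i, D.obj i ⟶ S) [∀ i, LocallyOfFiniteType (t i)]
    (ht : ∀ {i j : I} (f : i ⟶ j), D.map f ≫ t j = t i) (c : Cone D) (hc : IsLimit c) (i₀ : I)
    (Q : MorphismProperty Scheme.{u}) [Q.IsStableUnderBaseChange] (hq : Q (c.π.app i₀ ≫ t i₀))
    (hQa : Q ≤ @IsAffineHom)
    (hcase : ∀ {J : Type u} [SmallCategory J] [IsCofiltered J] {W : Scheme.{u}} [IsAffine W] (E : J ⥤ Scheme.{u})
      (_ : ∀ {i j} (f : i ⟶ j), P (E.map f)) [∀ i, IsAffine (E.obj i)] (s : ∀ i, E.obj i ⟶ W)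
      [∀ i, LocallyOfFiniteType (s i)] (_ : ∀ {i j : J} (f : i ⟶ j), E.map f ≫ s j = s i) (d : Cone E)
      (_ : IsLimit d) (o : J), Q (d.π.app o ≫ s o) → ∃ j, P (s j)) :
    ∃ i₁ : I, ∀ i : I, (i ⟶ i₁) → P (t i) := by
  classical
  have : ∀ {i j} (f : i ⟶ j), IsAffineHom (D.map f) := fun f => hPa _ (hD f)
  have : IsAffineHom (c.π.app i₀ ≫ t i₀) := hQa _ hq
  obtain ⟨i₁, hi₁⟩ := exists_isAffineHom_over D t ht c hc i₀
  obtain ⟨o, e₁, e₀, -⟩ := IsCofilteredOrEmpty.cone_objs i₁ i₀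
  have : IsAffineHom (t o) := hi₁ o e₁
  have hqo : Q (c.π.app o ≫ t o) := by
    have : c.π.app o ≫ t o = c.π.app i₀ ≫ t i₀ := by rw [← ht e₀, c.w_assoc]
    rwa [this]
  let 𝒰 := S.affineCover.finiteSubcover
  let W (a : 𝒰.I₀) : S.Opens := (𝒰.f a).opensRange
  have hW (a) : IsAffineOpen (W a) := by
    have : IsAffine (𝒰.X a) := by dsimp [𝒰]; infer_instance
    exact isAffineOpen_opensRange _
  have key : ∀ a, ∃ l : Over o, P (t l.left ∣_ W a) := by
    intro a
    let U : (D.obj o).Opens := t o ⁻¹ᵁ W a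
    have (l : Over o) : IsAffine ((opensDiagram D o U).obj l) := ((hW a).preimage (t o)).preimage (D.map l.hom)
    have e1 : ∀ l : Over o, D.map l.hom ⁻¹ᵁ U = t l.left ⁻¹ᵁ W a := fun l => by
      rw [← ht l.hom]; rfl
    let s : ∀ l : Over o, (opensDiagram D o U).obj l ⟶ (W a).toScheme := fun l =>
      (t l.left).resLE (W a) (D.map l.hom ⁻¹ᵁ U) (e1 l).le
    have hE : ∀ {l l' : Over o} (f : l ⟶ l'), P ((opensDiagram D o U).map f) := fun {l l'} f => by
      show P ((D.map f.left).resLE (D.map l'.hom ⁻¹ᵁ U) (D.map l.hom ⁻¹ᵁ U) _)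
      have e2 : D.map l.hom ⁻¹ᵁ U = D.map f.left ⁻¹ᵁ (D.map l'.hom ⁻¹ᵁ U) := by
        rw [← Over.w f, D.map_comp]
        rfl
      rw [Scheme.Hom.resLE_congr _ _ rfl e2 P, Scheme.Hom.resLE_eq_morphismRestrict]
      exact IsZariskiLocalAtTarget.restrict (hD _) _
    have hlim : Q ((opensCone D c o U).π.app (Over.mk (𝟙 o)) ≫ s (Over.mk (𝟙 o))) := by
      simp only [opensCone, s]
      erw [Scheme.Hom.resLE_comp_resLE]
      have e3 : c.π.app o ⁻¹ᵁ U = (c.π.app o ≫ t o) ⁻¹ᵁ W a := rfl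
      show Q ((c.π.app o ≫ t o).resLE (W a) (c.π.app o ⁻¹ᵁ U) _)
      rw [Scheme.Hom.resLE_congr _ _ rfl e3 Q, Scheme.Hom.resLE_eq_morphismRestrict]
      exact MorphismProperty.of_isPullback (isPullback_morphismRestrict _ _).flip hqo
    have : ∀ l, LocallyOfFiniteType (s l) := fun l => inferInstanceAs (LocallyOfFiniteType ((t l.left).resLE _ _ _))
    have : IsAffine (W a).toScheme := hW a
    obtain ⟨l, hl⟩ := hcase (opensDiagram D o U) hE s (fun f => by
      simp only [s, opensDiagram, Scheme.Hom.resLE_comp_resLE, ht]) (opensCone D c o U)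
      (isLimitOpensCone D c hc o U) (Over.mk (𝟙 o)) hlim
    refine ⟨l, ?_⟩
    change P ((t l.left).resLE _ _ _) at hl
    rwa [Scheme.Hom.resLE_congr (t l.left) _ rfl (e1 l) P, Scheme.Hom.resLE_eq_morphismRestrict] at hl
  choose l hl using key
  cases nonempty_fintype 𝒰.I₀
  obtain ⟨n, hn⟩ := IsCofiltered.inf_objs_exists (insert (Over.mk (𝟙 o)) (Finset.univ.image l))
  refine ⟨n.left, fun i e => ?_⟩
  refine IsZariskiLocalAtTarget.of_iSup_eq_top W 𝒰.iSup_opensRange fun a => ?_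
  let f : i ⟶ (l a).left := e ≫ (hn (Finset.mem_insert_of_mem (Finset.mem_image_of_mem _ (Finset.mem_univ a)))).some.left
  rw [← ht f, morphismRestrict_comp]
  exact P.comp_mem _ _ (IsZariskiLocalAtTarget.restrict (hD f) _) (hl a)

theorem exists_isClosedImmersion_over {S : Scheme.{u}} [CompactSpace S] [QuasiSeparatedSpace S]
    (D : I ⥤ Scheme.{u}) [∀ {i j} (f : i ⟶ j), IsClosedImmersion (D.map f)]
    [∀ i, CompactSpace (D.obj i)] [∀ i, QuasiSeparatedSpace (D.obj i)]
    (t : ∀ i, D.obj i ⟶ S) [∀ i, LocallyOfFiniteType (t i)]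
    (ht : ∀ {i j : I} (f : i ⟶ j), D.map f ≫ t j = t i) (c : Cone D) (hc : IsLimit c) (i₀ : I)
    [h : IsClosedImmersion (c.π.app i₀ ≫ t i₀)] :
    ∃ i₁ : I, ∀ i : I, (i ⟶ i₁) → IsClosedImmersion (t i) :=
  exists_over_of_affine_case @IsClosedImmersion (fun _ _ g (_ : IsClosedImmersion g) => inferInstance) D
    (fun f => inferInstance) t ht c hc i₀ @IsClosedImmersion h
    (fun _ _ g (_ : IsClosedImmersion g) => inferInstance)
    (by
      intro J _ _ W _ E hE _ s _ hs d hd o ho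
      have : ∀ {i j} (f : i ⟶ j), IsClosedImmersion (E.map f) := hE
      have := ho
      exact exists_isClosedImmersion_over_of_isAffine E s hs d hd o)

theorem exists_isFinite_over {S : Scheme.{u}} [CompactSpace S] [QuasiSeparatedSpace S]
    (D : I ⥤ Scheme.{u}) [∀ {i j} (f : i ⟶ j), IsFinite (D.map f)]
    [∀ i, CompactSpace (D.obj i)] [∀ i, QuasiSeparatedSpace (D.obj i)]
    (t : ∀ i, D.obj i ⟶ S) [∀ i, LocallyOfFiniteType (t i)]
    (ht : ∀ {i j : I} (f : i ⟶ j), D.map f ≫ t j = t i) (c : Cone D) (hc : IsLimit c) (i₀ : I)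
    [h : IsIntegralHom (c.π.app i₀ ≫ t i₀)] :
    ∃ i₁ : I, ∀ i : I, (i ⟶ i₁) → IsFinite (t i) :=
  exists_over_of_affine_case @IsFinite (fun _ _ g (_ : IsFinite g) => inferInstance) D
    (fun f => inferInstance) t ht c hc i₀ @IsIntegralHom h
    (fun _ _ g (_ : IsIntegralHom g) => inferInstance)
    (by
      intro J _ _ W _ E hE _ s _ hs d hd o ho
      have : ∀ {i j} (f : i ⟶ j), IsFinite (E.map f) := hE
      have := ho
      exact exists_isFinite_over_of_isAffine E s hs d hd o)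

theorem exists_isImmersion_over {S : Scheme.{u}} [QuasiSeparatedSpace S]
    (D : I ⥤ Scheme.{u}) [∀ {i j} (f : i ⟶ j), IsClosedImmersion (D.map f)]
    [∀ i, CompactSpace (D.obj i)] [∀ i, QuasiSeparatedSpace (D.obj i)]
    (t : ∀ i, D.obj i ⟶ S) [∀ i, LocallyOfFiniteType (t i)]
    (ht : ∀ {i j : I} (f : i ⟶ j), D.map f ≫ t j = t i) (c : Cone D) (hc : IsLimit c) (i₀ : I)
    [IsImmersion (c.π.app i₀ ≫ t i₀)] :
    ∃ i₁ : I, ∀ i : I, (i ⟶ i₁) → IsImmersion (t i) := by
  classical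
  let q : c.pt ⟶ S := c.π.app i₀ ≫ t i₀
  have hq : IsImmersion q := ‹_›
  have : CompactSpace c.pt := Scheme.compactSpace_of_isLimit _ _ hc
  obtain ⟨U, hU, hfU, hUo⟩ : ∃ U : S.Opens, IsCompact (U : Set S) ∧ Set.range q ⊆ U ∧
      U ≤ q.coborderRange := by
    obtain ⟨s, hs, hsf, hsU⟩ := (isCompact_range q.continuous).elim_finite_subcover_image
      (b := {V : S.affineOpens | (V : S.Opens) ≤ q.coborderRange}) (c := fun V => ((V : S.Opens) : Set S))
      (fun V _ => (V : S.Opens).2) (fun y hy => by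
        obtain ⟨_, ⟨V, hV, rfl⟩, hyV, hVs⟩ := S.isBasis_affineOpens.exists_subset_of_mem_open
          (show y ∈ (q.coborderRange : Set S) from subset_coborder hy) q.coborderRange.2
        exact Set.mem_iUnion₂.2 ⟨⟨V, hV⟩, hVs, hyV⟩)
    refine ⟨⨆ V ∈ s, (V : S.Opens), ?_, fun y hy => ?_, iSup₂_le fun V hV => hs hV⟩
    · rw [show ((⨆ V ∈ s, (V : S.Opens) : S.Opens) : Set S) = ⋃ V ∈ s, ((V : S.Opens) : Set S) by simp]
      exact hsf.isCompact_biUnion fun V _ => V.2.isCompact
    · simpa using hsU hy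
  obtain ⟨k, f, hk⟩ := exists_map_eq_top D c hc (t i₀ ⁻¹ᵁ U) (by
    rw [← Scheme.Hom.comp_preimage]
    exact eq_top_iff.2 fun x _ => hfU ⟨x, rfl⟩)
  have hrange : ∀ l : Over k, Set.range (t l.left) ⊆ Set.range U.ι := by
    intro l
    rw [Scheme.Opens.range_ι, ← ht l.hom]
    rintro _ ⟨x, rfl⟩
    show D.map l.hom x ∈ t k ⁻¹ᵁ U
    rw [← ht f, Scheme.Hom.comp_preimage, hk]
    trivial
  let s : ∀ l : Over k, (Over.forget k ⋙ D).obj l ⟶ U.toScheme := fun l => IsOpenImmersion.lift U.ι _ (hrange l)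
  have hs : ∀ l, s l ≫ U.ι = (t l.left : (Over.forget k ⋙ D).obj l ⟶ S) := fun l => IsOpenImmersion.lift_fac _ _ _
  have : ∀ l, LocallyOfFiniteType (s l) := fun l => by
    have : LocallyOfFiniteType (s l ≫ U.ι) := by rw [hs]; exact (inferInstance : LocallyOfFiniteType (t l.left))
    exact locallyOfFiniteType_of_comp (s l) U.ι
  have : CompactSpace U := isCompact_iff_compactSpace.mp hU
  have : QuasiSeparatedSpace U := (isQuasiSeparated_iff_quasiSeparatedSpace _ U.2).mp (.of_quasiSeparatedSpace _)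
  have : ∀ {l l' : Over k} (g : l ⟶ l'), IsClosedImmersion ((Over.forget k ⋙ D).map g) :=
    fun g => inferInstanceAs (IsClosedImmersion (D.map g.left))
  have : ∀ l : Over k, CompactSpace ((Over.forget k ⋙ D).obj l) := fun l => inferInstanceAs (CompactSpace (D.obj l.left))
  have : ∀ l : Over k, QuasiSeparatedSpace ((Over.forget k ⋙ D).obj l) :=
    fun l => inferInstanceAs (QuasiSeparatedSpace (D.obj l.left))
  let o : Over k := Over.mk (𝟙 k)
  let q' : c.pt ⟶ U.toScheme := c.π.app k ≫ s o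
  have hq' : q' ≫ U.ι = q := by
    show (c.π.app k ≫ s o) ≫ U.ι = c.π.app i₀ ≫ t i₀
    rw [Category.assoc]
    erw [hs o]
    show c.π.app k ≫ t k = _
    rw [← ht f, c.w_assoc]
  have : IsClosedImmersion q' := by
    have : IsPreimmersion (q' ≫ U.ι) := by rw [hq']; infer_instance
    have : IsPreimmersion q' := IsPreimmersion.of_comp q' U.ι
    refine IsClosedImmersion.of_isPreimmersion q' ?_
    have h1 : Set.range q' = U.ι ⁻¹' Set.range q := by
      ext y
      constructor
      · rintro ⟨x, rfl⟩; exact ⟨x, congr($hq' x).symm⟩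
      · rintro ⟨x, hx⟩
        exact ⟨x, U.ι.isOpenEmbedding.injective (congr($hq' x).trans hx)⟩
    have h2 : closure (Set.range q) ∩ (U : Set S) = Set.range q := by
      refine subset_antisymm ?_ fun y hy => ⟨subset_closure hy, hfU hy⟩
      rintro y ⟨hy, hyU⟩
      have h3 : y ∈ closure (Set.range q) ∩ coborder (Set.range q) := ⟨hy, hUo hyU⟩
      rwa [Set.inter_comm, coborder_inter_closure] at h3
    rw [h1, ← h2, Set.preimage_inter, ← Scheme.Opens.range_ι, Set.preimage_range, Set.inter_univ]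
    exact isClosed_closure.preimage U.ι.continuous
  have : IsClosedImmersion ((Cone.whisker (Over.forget k) c).π.app o ≫ s o) := ‹IsClosedImmersion q'›
  obtain ⟨l, hl⟩ := exists_isClosedImmersion_over (Over.forget k ⋙ D) s (fun {a b} g => by
      rw [← cancel_mono U.ι, Category.assoc, hs, hs]; exact ht g.left)
    (Cone.whisker (Over.forget k) c) ((Functor.Initial.isLimitWhiskerEquiv (Over.forget k) c).symm hc) o
  refine ⟨l.left, fun i e => ?_⟩
  have := hl (Over.mk (e ≫ l.hom)) (Over.homMk e rfl)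
  let x : Over k := Over.mk (e ≫ l.hom)
  have h2 : IsImmersion (s x ≫ U.ι) := inferInstance
  rw [hs x] at h2
  exact h2

end Groth.Agent.LimMore
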