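import Groth.Agent.LimDesc.DescendClosed
import Mathlib.AlgebraicGeometry.Morphisms.Finite
import Mathlib.AlgebraicGeometry.Morphisms.Separated
import Mathlib.RingTheory.IntegralClosure.IsIntegralClosure.Basic

/-!
Further descent along cofiltered limits: finite, separated, closed immersions and immersions locally of finite type.
-/

set_option autoImplicit false
universe u
open CategoryTheory CategoryTheory.Limits AlgebraicGeometry

namespace Groth.Agent.LimMore

open LimDesc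

variable {I : Type u} [SmallCategory I] [IsCofiltered I] (D : I ⥤ Scheme.{u})
  [∀ {i j} (f : i ⟶ j), IsAffineHom (D.map f)] {i₀ : I}
variable (c : Cone D) (hc : IsLimit c)
variable {X₀ Y₀ : Scheme.{u}} (f₀ : X₀ ⟶ Y₀) (g₀ : Y₀ ⟶ D.obj i₀)
variable {X Y : Scheme.{u}} {f : X ⟶ Y} {g : Y ⟶ c.pt} {qY : Y ⟶ Y₀} {qX : X ⟶ X₀}
variable (hY : IsPullback qY g g₀ (c.π.app i₀)) (hX : IsPullback qX f f₀ qY)

omit [IsCofiltered I] [∀ {i j} (f : i ⟶ j), IsAffineHom (D.map f)] in
/-- a descended morphism is isomorphic to the map of a stage -/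
theorem exists_stageMap_of_descend (P : MorphismProperty Scheme.{u}) [P.RespectsIso]
    (h : ∃ (i : I) (φ : i ⟶ i₀) (Xi Yi : Scheme.{u}) (fi : Xi ⟶ Yi) (gi : Yi ⟶ D.obj i) (pY : Yi ⟶ Y₀)
      (pX : Xi ⟶ X₀), IsPullback pY gi g₀ (D.map φ) ∧ IsPullback pX fi f₀ pY ∧ P fi) :
    ∃ j : Over i₀, P (stageMap D g₀ f₀ j) := by
  obtain ⟨i, φ, Xi, Yi, fi, gi, pY, pX, h1, h2, h3⟩ := h
  refine ⟨Over.mk φ, ?_⟩
  let e := h1.isoIsPullback _ _ (isPullback_stage D g₀ (Over.mk φ))
  have h4 : IsPullback pX (fi ≫ e.hom) f₀ (toBase D g₀ (Over.mk φ)) :=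
    h2.of_iso (Iso.refl _) (Iso.refl _) e (Iso.refl _) (by simp) (by simp) (by simp)
      (by simp [e])
  rw [← (isPullback_stageMap D g₀ f₀ (Over.mk φ)).isoIsPullback_hom_snd _ _ h4, P.cancel_left_of_respectsIso,
    P.cancel_right_of_respectsIso]
  exact h3

include hc hY hX in
/-- closed immersions of finite type descend -/
theorem exists_isClosedImmersion_lft [CompactSpace (D.obj i₀)] [QuasiSeparatedSpace (D.obj i₀)]
    [QuasiCompact g₀] [QuasiSeparated g₀] [QuasiCompact (f₀ ≫ g₀)] [QuasiSeparated (f₀ ≫ g₀)]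
    [LocallyOfFiniteType f₀] [IsClosedImmersion f] :
    ∃ (i : I) (φ : i ⟶ i₀) (Xi Yi : Scheme.{u}) (fi : Xi ⟶ Yi) (gi : Yi ⟶ D.obj i) (pY : Yi ⟶ Y₀)
      (pX : Xi ⟶ X₀), IsPullback pY gi g₀ (D.map φ) ∧ IsPullback pX fi f₀ pY ∧ IsClosedImmersion fi := by
  obtain ⟨o, ho⟩ := exists_isAffineHom D c hc f₀ g₀ hY hX
  have : LocallyOfFiniteType (stageMap D g₀ f₀ o) :=
    MorphismProperty.of_isPullback (P := @LocallyOfFiniteType) (isPullback_stageMap D g₀ f₀ o) inferInstance
  have : CompactSpace Y₀ := QuasiCompact.compactSpace_of_compactSpace g₀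
  have : CompactSpace (stage D g₀ o) := compactSpace_stage D g₀ o
  obtain ⟨j, hj⟩ := exists_isClosedImmersion_of_isAffineHom D c hc (i₀ := o.left)
    (stageMap D g₀ f₀ o) (toStage D g₀ o) (isPullback_proj D g₀ c hY o)
    (isPullback_proj_stageMap D g₀ c hY f₀ hX o)
  exact exists_descend_of_rebase D f₀ g₀ @IsClosedImmersion o j hj

include hc hY hX in
/-- immersions descend -/
theorem exists_isImmersion_lft [CompactSpace (D.obj i₀)] [QuasiSeparatedSpace (D.obj i₀)]
    [QuasiCompact g₀] [QuasiSeparated g₀]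
    [QuasiCompact (f₀ ≫ g₀)] [QuasiSeparated (f₀ ≫ g₀)] [LocallyOfFiniteType f₀]
    [IsImmersion f] :
    ∃ (i : I) (φ : i ⟶ i₀) (Xi Yi : Scheme.{u}) (fi : Xi ⟶ Yi) (gi : Yi ⟶ D.obj i) (pY : Yi ⟶ Y₀)
      (pX : Xi ⟶ X₀), IsPullback pY gi g₀ (D.map φ) ∧ IsPullback pX fi f₀ pY ∧ IsImmersion fi := by
  classical
  have : CompactSpace Y₀ := QuasiCompact.compactSpace_of_compactSpace g₀
  have : QuasiSeparatedSpace Y₀ := quasiSeparatedSpace_of_quasiSeparated g₀
  have : CompactSpace X₀ := QuasiCompact.compactSpace_of_compactSpace (f₀ ≫ g₀)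
  have := isAffineHom_π_app D c hc i₀
  have hXS := isPullback_comp D g₀ c hY f₀ hX
  have : IsAffineHom qX := MorphismProperty.of_isPullback hXS.flip inferInstance
  have : CompactSpace X := QuasiCompact.compactSpace_of_compactSpace qX
  -- a quasi-compact open in which the image is closed
  obtain ⟨U, hU, hfU, hUo⟩ : ∃ U : Y.Opens, IsCompact (U : Set Y) ∧ Set.range f ⊆ U ∧
      U ≤ f.coborderRange := by
    obtain ⟨s, hs, hsf, hsU⟩ := (isCompact_range f.continuous).elim_finite_subcover_image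
      (b := {V : Y.affineOpens | (V : Y.Opens) ≤ f.coborderRange}) (c := fun V => ((V : Y.Opens) : Set Y))
      (fun V _ => (V : Y.Opens).2) (fun y hy => by
        obtain ⟨_, ⟨V, hV, rfl⟩, hyV, hVs⟩ := Y.isBasis_affineOpens.exists_subset_of_mem_open
          (show y ∈ (f.coborderRange : Set Y) from subset_coborder hy) f.coborderRange.2
        exact Set.mem_iUnion₂.2 ⟨⟨V, hV⟩, hVs, hyV⟩)
    refine ⟨⨆ V ∈ s, (V : Y.Opens), ?_, fun y hy => ?_, iSup₂_le fun V hV => hs hV⟩
    · rw [show ((⨆ V ∈ s, (V : Y.Opens) : Y.Opens) : Set Y) = ⋃ V ∈ s, ((V : Y.Opens) : Set Y) by simp]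
      exact hsf.isCompact_biUnion fun V _ => V.2.isCompact
    · simpa using hsU hy
  have haY : ∀ {i j : Over i₀} (a : i ⟶ j), IsAffineHom ((tower D g₀).map a) :=
    fun a => isAffineHom_tower_map D g₀ a
  have hcY : ∀ j, CompactSpace ((tower D g₀).obj j) := fun j => compactSpace_stage D g₀ j
  have haX : ∀ {i j : Over i₀} (a : i ⟶ j), IsAffineHom ((tower D (f₀ ≫ g₀)).map a) :=
    fun a => isAffineHom_tower_map D (f₀ ≫ g₀) a
  have hcX : ∀ j, CompactSpace ((tower D (f₀ ≫ g₀)).obj j) := fun j => compactSpace_stage D _ j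
  obtain ⟨j₀, V, hV, hVU⟩ := exists_preimage_eq (tower D g₀) (towerCone D g₀ c hY)
    (isLimitTowerCone D g₀ c hY hc) U hU
  obtain ⟨o, a, ha⟩ := exists_map_preimage_le_map_preimage (tower D (f₀ ≫ g₀))
    (towerCone D (f₀ ≫ g₀) c hXS) (isLimitTowerCone D (f₀ ≫ g₀) c hXS hc) (i := j₀)
    (U := ⊤) (V := stageMap D g₀ f₀ j₀ ⁻¹ᵁ V) (by exact isCompact_univ) (by
      intro x _
      show (proj D (f₀ ≫ g₀) c hXS j₀ ≫ stageMap D g₀ f₀ j₀) (show X from x) ∈ V
      rw [proj_stageMap D g₀ c hY f₀ hX j₀]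
      show f (show X from x) ∈ (towerCone D g₀ c hY).π.app j₀ ⁻¹ᵁ V
      rw [hVU]; exact hfU ⟨x, rfl⟩)
  -- rebase at `o`
  let W : (stage D g₀ o).Opens := trans D g₀ a ⁻¹ᵁ V
  have : IsAffineHom (trans D g₀ a) := isAffineHom_tower_map D g₀ a
  have hWc : IsCompact (W : Set (stage D g₀ o)) :=
    QuasiCompact.isCompact_preimage (f := trans D g₀ a) _ V.2 hV
  have hWU : proj D g₀ c hY o ⁻¹ᵁ W = U := by
    refine Eq.trans ?_ hVU
    refine Eq.trans ?_ (congrArg (· ⁻¹ᵁ V) ((towerCone D g₀ c hY).w a))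
    rfl
  let fo := stageMap D g₀ f₀ o
  have hfo : Set.range fo ⊆ Set.range W.ι := by
    rw [Scheme.Opens.range_ι]
    rintro _ ⟨x, rfl⟩
    show (fo ≫ trans D g₀ a) x ∈ V
    rw [← trans_stageMap]
    exact ha (show x ∈ (tower D (f₀ ≫ g₀)).map a ⁻¹ᵁ ⊤ from trivial)
  let f₁ := IsOpenImmersion.lift W.ι fo hfo
  have hf₁ : f₁ ≫ W.ι = fo := IsOpenImmersion.lift_fac _ _ _
  have : CompactSpace (D.obj o.left) := QuasiCompact.compactSpace_of_compactSpace (D.map o.hom)
  have : QuasiSeparatedSpace (D.obj o.left) := quasiSeparatedSpace_of_quasiSeparated (D.map o.hom)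
  have hPB := isPullback_stage D g₀ o
  have hPB' := isPullback_stage D (f₀ ≫ g₀) o
  have : QuasiCompact (toStage D g₀ o) := MorphismProperty.of_isPullback hPB inferInstance
  have : QuasiSeparated (toStage D g₀ o) := MorphismProperty.of_isPullback hPB inferInstance
  have : QuasiSeparatedSpace (stage D g₀ o) := quasiSeparatedSpace_stage D g₀ o
  have : CompactSpace W := isCompact_iff_compactSpace.mp hWc
  have : QuasiCompact W.ι := quasiCompact_of_compactSpace _
  have e : f₁ ≫ W.ι ≫ toStage D g₀ o = toStage D (f₀ ≫ g₀) o := by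
    rw [reassoc_of% hf₁, stageMap_toStage]
  have : QuasiCompact (f₁ ≫ W.ι ≫ toStage D g₀ o) := by
    rw [e]; exact MorphismProperty.of_isPullback hPB' inferInstance
  have : QuasiSeparated (f₁ ≫ W.ι ≫ toStage D g₀ o) := by
    rw [e]; exact MorphismProperty.of_isPullback hPB' inferInstance
  have : LocallyOfFiniteType (f₁ ≫ W.ι) := by
    rw [hf₁]; exact MorphismProperty.of_isPullback (P := @LocallyOfFiniteType) (isPullback_stageMap D g₀ f₀ o) inferInstance
  have : LocallyOfFiniteType f₁ := locallyOfFiniteType_of_comp f₁ W.ι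
  have hYo := isPullback_proj D g₀ c hY o
  have hY₁ : IsPullback (proj D g₀ c hY o ∣_ W) ((proj D g₀ c hY o ⁻¹ᵁ W).ι ≫ g)
      (W.ι ≫ toStage D g₀ o) (c.π.app o.left) :=
    (isPullback_morphismRestrict _ W).paste_vert hYo
  have hrange : Set.range f ⊆ Set.range (proj D g₀ c hY o ⁻¹ᵁ W).ι := by
    rw [Scheme.Opens.range_ι, hWU]; exact hfU
  let f' := IsOpenImmersion.lift (proj D g₀ c hY o ⁻¹ᵁ W).ι f hrange
  have hf' : f' ≫ (proj D g₀ c hY o ⁻¹ᵁ W).ι = f := IsOpenImmersion.lift_fac _ _ _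
  have hX₁ : IsPullback (proj D (f₀ ≫ g₀) c hXS o) f' f₁ (proj D g₀ c hY o ∣_ W) := by
    refine IsPullback.of_bot ?_ ?_ (isPullback_morphismRestrict _ W)
    · rw [hf', hf₁]; exact isPullback_proj_stageMap D g₀ c hY f₀ hX o
    · rw [← cancel_mono W.ι, Category.assoc, Category.assoc, morphismRestrict_ι, hf₁,
        reassoc_of% hf']
      exact proj_stageMap D g₀ c hY f₀ hX o
  have : IsClosedImmersion f' := by
    have : IsPreimmersion (f' ≫ (proj D g₀ c hY o ⁻¹ᵁ W).ι) := by rw [hf']; infer_instance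
    have : IsPreimmersion f' := IsPreimmersion.of_comp f' (proj D g₀ c hY o ⁻¹ᵁ W).ι
    refine IsClosedImmersion.of_isPreimmersion f' ?_
    have h1 : Set.range f' = (proj D g₀ c hY o ⁻¹ᵁ W).ι ⁻¹' Set.range f := by
      conv_rhs => rw [← hf']
      rw [Scheme.Hom.comp_base, TopCat.coe_comp, Set.range_comp,
        Set.preimage_image_eq _ (proj D g₀ c hY o ⁻¹ᵁ W).ι.isOpenEmbedding.injective]
    have h2 : closure (Set.range f) ∩ (U : Set Y) = Set.range f := by
      refine subset_antisymm ?_ fun y hy => ⟨subset_closure hy, hfU hy⟩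
      rintro y ⟨hy, hyU⟩
      have h3 : y ∈ closure (Set.range f) ∩ coborder (Set.range f) := ⟨hy, hUo hyU⟩
      rwa [Set.inter_comm, coborder_inter_closure] at h3
    rw [h1, ← h2, Set.preimage_inter]
    refine (isClosed_closure.preimage (proj D g₀ c hY o ⁻¹ᵁ W).ι.continuous).inter ?_
    rw [← hWU, ← Scheme.Opens.range_ι, Set.preimage_range]
    exact isClosed_univ
  have h := exists_descend_immersion D (i₀ := o.left) fo (toStage D g₀ o) W f₁ hf₁
    (exists_isClosedImmersion_lft D c hc (i₀ := o.left) f₁ (W.ι ≫ toStage D g₀ o) hY₁ hX₁)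
  obtain ⟨i, φ, Xi, Yi, fi, gi, pY, pX, h1, h2, h3⟩ := h
  refine ⟨i, φ ≫ o.hom, Xi, Yi, fi, gi, pY ≫ toBase D g₀ o, _, ?_,
    h2.paste_horiz (isPullback_stageMap D g₀ f₀ o), h3⟩
  rw [D.map_comp]
  exact h1.paste_horiz (isPullback_stage D g₀ o)


include hc hY hX in
/-- separated morphisms descend -/
theorem exists_isSeparated [CompactSpace (D.obj i₀)] [QuasiSeparatedSpace (D.obj i₀)]
    [QuasiCompact g₀] [QuasiSeparated g₀] [QuasiCompact (f₀ ≫ g₀)] [QuasiSeparated (f₀ ≫ g₀)] [IsSeparated f] :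
    ∃ j : Over i₀, IsSeparated (stageMap D g₀ f₀ j) := by
  have : QuasiCompact f₀ := QuasiCompact.of_comp f₀ g₀
  have : QuasiSeparated f₀ := QuasiSeparated.of_comp f₀ g₀
  let gP := pullback.fst f₀ f₀ ≫ f₀ ≫ g₀
  let δ := pullback.diagonal f₀
  have hδ : δ ≫ gP = f₀ ≫ g₀ := by simp [δ, gP, pullback.lift_fst_assoc]
  have : QuasiCompact (δ ≫ gP) := hδ.symm ▸ ‹_›
  have : QuasiSeparated (δ ≫ gP) := hδ.symm ▸ ‹_›
  have hXS := isPullback_comp D g₀ c hY f₀ hX
  -- the diagonal of the limit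
  let qP : pullback f f ⟶ pullback f₀ f₀ := pullback.map f f f₀ f₀ qX qX qY hX.w.symm hX.w.symm
  have hq1 : qP ≫ pullback.fst f₀ f₀ = pullback.fst f f ≫ qX := pullback.lift_fst _ _ _
  have hq2 : qP ≫ pullback.snd f₀ f₀ = pullback.snd f f ≫ qX := pullback.lift_snd _ _ _
  have hP : IsPullback qP (pullback.fst f f) (pullback.fst f₀ f₀) qX := by
    have h1 : IsPullback (pullback.snd f f ≫ qX) (pullback.fst f f) f₀ (qX ≫ f₀) := by
      rw [hX.w]
      exact ((IsPullback.of_hasPullback f f).flip.paste_horiz hX)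
    rw [← hq2] at h1
    exact h1.of_right hq1 (IsPullback.of_hasPullback f₀ f₀).flip
  have hPS : IsPullback qP (pullback.fst f f ≫ f ≫ g) gP (c.π.app i₀) := hP.paste_vert hXS
  have hD : IsPullback qX (pullback.diagonal f) δ qP := by
    refine IsPullback.of_bot ?_ ?_ hP
    · simp only [δ, pullback.diagonal_fst]
      exact IsPullback.of_vert_isIso ⟨by simp⟩
    · apply pullback.hom_ext <;> simp [δ, hq1, hq2, pullback.lift_fst_assoc, pullback.lift_snd_assoc]
  obtain ⟨j, hj⟩ := exists_stageMap_of_descend D δ gP @IsClosedImmersion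
    (exists_isClosedImmersion_lft D c hc δ gP hPS hD)
  refine ⟨j, ⟨?_⟩⟩
  have hb := isPullback_stageMap D g₀ f₀ j
  let π := pullback.map (stageMap D g₀ f₀ j) (stageMap D g₀ f₀ j) f₀ f₀ (toBase D (f₀ ≫ g₀) j) (toBase D (f₀ ≫ g₀) j)
    (toBase D g₀ j) hb.w.symm hb.w.symm
  have hπ1 : π ≫ pullback.fst f₀ f₀ = pullback.fst _ _ ≫ toBase D (f₀ ≫ g₀) j := pullback.lift_fst _ _ _
  have hπ2 : π ≫ pullback.snd f₀ f₀ = pullback.snd _ _ ≫ toBase D (f₀ ≫ g₀) j := pullback.lift_snd _ _ _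
  have hπ : IsPullback π (pullback.fst _ _) (pullback.fst f₀ f₀) (toBase D (f₀ ≫ g₀) j) := by
    have h1 : IsPullback (pullback.snd (stageMap D g₀ f₀ j) (stageMap D g₀ f₀ j) ≫ toBase D (f₀ ≫ g₀) j)
        (pullback.fst _ _) f₀ (toBase D (f₀ ≫ g₀) j ≫ f₀) := by
      rw [hb.w]
      exact ((IsPullback.of_hasPullback _ _).flip.paste_horiz hb)
    rw [← hπ2] at h1
    exact h1.of_right hπ1 (IsPullback.of_hasPullback f₀ f₀).flip
  have hπS : IsPullback π (pullback.fst _ _ ≫ toStage D (f₀ ≫ g₀) j) gP (D.map j.hom) :=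
    hπ.paste_vert (isPullback_stage D (f₀ ≫ g₀) j)
  let e := hπS.isoIsPullback _ _ (isPullback_stage D gP j)
  have hΔ : IsPullback (toBase D (f₀ ≫ g₀) j) (pullback.diagonal (stageMap D g₀ f₀ j)) δ π := by
    refine IsPullback.of_bot ?_ ?_ hπ
    · simp only [δ, pullback.diagonal_fst]
      exact IsPullback.of_vert_isIso ⟨by simp⟩
    · apply pullback.hom_ext <;> simp [δ, hπ1, hπ2, pullback.lift_fst_assoc, pullback.lift_snd_assoc]
  have hΔ' : IsPullback (toBase D (f₀ ≫ g₀) j) (pullback.diagonal (stageMap D g₀ f₀ j) ≫ e.hom) δ (toBase D gP j) :=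
    hΔ.of_iso (Iso.refl _) (Iso.refl _) e (Iso.refl _) (by simp) (by simp) (by simp) (by simp [e])
  have h5 : IsClosedImmersion (pullback.diagonal (stageMap D g₀ f₀ j) ≫ e.hom) := by
    rw [← hΔ'.isoIsPullback_hom_snd _ _ (isPullback_stageMap D gP δ j)]
    exact (MorphismProperty.cancel_left_of_respectsIso @IsClosedImmersion _ _).2 hj
  exact (MorphismProperty.cancel_right_of_respectsIso @IsClosedImmersion _ _).1 h5

include hc hY hX in
/-- the affine case of finiteness -/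
theorem exists_isFinite_of_isAffine [IsAffine X₀] [IsAffine Y₀] [LocallyOfFiniteType f₀] [IsFinite f] :
    ∃ j : Over i₀, IsFinite (stageMap D g₀ f₀ j) := by
  classical
  have := isAffineHom_π_app D c hc i₀
  have : IsAffineHom qY := MorphismProperty.of_isPullback hY.flip inferInstance
  have : IsAffine Y := isAffine_of_isAffineHom qY
  have hXS := isPullback_comp D g₀ c hY f₀ hX
  have haY : ∀ {i j : Over i₀} (a : i ⟶ j), IsAffineHom ((tower D g₀).map a) :=
    fun a => isAffineHom_tower_map D g₀ a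
  have haX : ∀ {i j : Over i₀} (a : i ⟶ j), IsAffineHom ((tower D (f₀ ≫ g₀)).map a) :=
    fun a => isAffineHom_tower_map D (f₀ ≫ g₀) a
  have hYa : ∀ j, IsAffine (stage D g₀ j) := fun j =>
    have := isAffineHom_toBase D g₀ j; isAffine_of_isAffineHom (toBase D g₀ j)
  have hXa : ∀ j, IsAffine (stage D (f₀ ≫ g₀) j) := fun j =>
    have := isAffineHom_toBase D (f₀ ≫ g₀) j; isAffine_of_isAffineHom (toBase D (f₀ ≫ g₀) j)
  have hcY : ∀ j, CompactSpace ((tower D g₀).obj j) := fun j => compactSpace_stage D g₀ j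
  have hqY : ∀ j, QuasiSeparatedSpace ((tower D g₀).obj j) := fun j => quasiSeparatedSpace_stage D g₀ j
  have hcX : ∀ j, CompactSpace ((tower D (f₀ ≫ g₀)).obj j) := fun j => compactSpace_stage D _ j
  have hft : f₀.appTop.hom.FiniteType :=
    (HasRingHomProperty.iff_of_isAffine (P := @LocallyOfFiniteType)).1 inferInstance
  algebraize [f₀.appTop.hom]
  obtain ⟨s, hs⟩ := (inferInstance : Algebra.FiniteType Γ(Y₀, ⊤) Γ(X₀, ⊤)).out
  have hfin : f.appTop.hom.Finite := f.finite_app ⊤ (isAffineOpen_top Y)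
  have key : ∀ b : Γ(X₀, ⊤), ∃ j : Over i₀,
      (stageMap D g₀ f₀ j).appTop.hom.IsIntegralElem ((toBase D (f₀ ≫ g₀) j).appTop b) := by
    intro b
    obtain ⟨p, hp, hpe⟩ := hfin.to_isIntegral (qX.appTop b)
    -- lift the coefficients
    have hlift : ∀ (S : Finset ℕ), ∃ (j : Over i₀) (q : ℕ → Γ(stage D g₀ j, ⊤)),
        ∀ k ∈ S, (proj D g₀ c hY j).appTop (q k) = p.coeff k := by
      intro S
      induction S using Finset.induction with
      | empty => exact ⟨Over.mk (𝟙 i₀), fun _ => 0, by simp⟩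
      | insert k S _ ih =>
        obtain ⟨j, q, hq⟩ := ih
        obtain ⟨j', (t : Γ(stage D g₀ j', ⊤)), ht⟩ := exists_appTop_π_eq_of_isLimit (tower D g₀) (towerCone D g₀ c hY)
          (isLimitTowerCone D g₀ c hY hc) (p.coeff k)
        obtain ⟨l, a, b', -⟩ := IsCofilteredOrEmpty.cone_objs j j'
        have hw : ∀ {i k : Over i₀} (a : i ⟶ k), proj D g₀ c hY i ≫ trans D g₀ a = proj D g₀ c hY k := fun a =>
          (towerCone D g₀ c hY).w a
        refine ⟨l, fun k' => if k' = k then (trans D g₀ b').appTop t else (trans D g₀ a).appTop (q k'), fun k' hk' => ?_⟩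
        by_cases h : k' = k
        · simp only [if_pos h]
          rw [h, ← CommRingCat.comp_apply, ← Scheme.Hom.comp_appTop, hw]
          exact ht.symm
        · simp only [if_neg h]
          rw [← CommRingCat.comp_apply, ← Scheme.Hom.comp_appTop, hw]
          exact hq k' ((Finset.mem_insert.1 hk').resolve_left h)
    obtain ⟨j, q, hq⟩ := hlift (Finset.range p.natDegree)
    let pj : Polynomial Γ(stage D g₀ j, ⊤) :=
      Polynomial.X ^ p.natDegree + ∑ k ∈ Finset.range p.natDegree, Polynomial.C (q k) * Polynomial.X ^ k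
    have hpj : pj.Monic := by
      refine Polynomial.monic_X_pow_add ?_
      exact Polynomial.degree_sum_fin_lt (fun k : Fin p.natDegree => q k) |>.trans_eq' (by rw [Finset.sum_range])
    have hmap : pj.map (proj D g₀ c hY j).appTop.hom = p := by
      simp only [pj, Polynomial.map_add, Polynomial.map_pow, Polynomial.map_X, Polynomial.map_sum, Polynomial.map_mul,
        Polynomial.map_C]
      conv_rhs => rw [hp.as_sum]
      congr 1
      refine Finset.sum_congr rfl fun k hk => ?_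
      rw [hq k hk]
    let z := Polynomial.eval₂ (stageMap D g₀ f₀ j).appTop.hom ((toBase D (f₀ ≫ g₀) j).appTop b) pj
    have hz : (proj D (f₀ ≫ g₀) c hXS j).appTop z = 0 := by
      have e1 : (proj D (f₀ ≫ g₀) c hXS j).appTop.hom.comp (stageMap D g₀ f₀ j).appTop.hom =
          f.appTop.hom.comp (proj D g₀ c hY j).appTop.hom := by
        rw [← CommRingCat.hom_comp, ← Scheme.Hom.comp_appTop, proj_stageMap D g₀ c hY f₀ hX j,
          Scheme.Hom.comp_appTop, CommRingCat.hom_comp]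
      have e2 : (proj D (f₀ ≫ g₀) c hXS j).appTop ((toBase D (f₀ ≫ g₀) j).appTop b) = qX.appTop b := by
        rw [← CommRingCat.comp_apply, ← Scheme.Hom.comp_appTop, proj_toBase]
      change (proj D (f₀ ≫ g₀) c hXS j).appTop.hom z = 0
      rw [Polynomial.hom_eval₂, e1, ← Polynomial.eval₂_map, hmap]
      exact (congrArg (fun x => Polynomial.eval₂ f.appTop.hom x p) e2).trans hpe
    obtain ⟨k, φ, hk⟩ := exists_appTop_map_eq_zero_of_isLimit (tower D (f₀ ≫ g₀))
      (towerCone D (f₀ ≫ g₀) c hXS) (isLimitTowerCone D (f₀ ≫ g₀) c hXS hc) z hz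
    refine ⟨k, pj.map (trans D g₀ φ).appTop.hom, hpj.map _, ?_⟩
    have e1 : (stageMap D g₀ f₀ k).appTop.hom.comp (trans D g₀ φ).appTop.hom =
        (trans D (f₀ ≫ g₀) φ).appTop.hom.comp (stageMap D g₀ f₀ j).appTop.hom := by
      rw [← CommRingCat.hom_comp, ← Scheme.Hom.comp_appTop, ← trans_stageMap, Scheme.Hom.comp_appTop,
        CommRingCat.hom_comp]
    have e2 : (toBase D (f₀ ≫ g₀) k).appTop b = (trans D (f₀ ≫ g₀) φ).appTop ((toBase D (f₀ ≫ g₀) j).appTop b) := by
      rw [← CommRingCat.comp_apply, ← Scheme.Hom.comp_appTop, trans_toBase]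
    rw [Polynomial.eval₂_map, e1, e2]
    exact (Polynomial.hom_eval₂ _ _ _ _).symm.trans hk
  choose j hj using key
  obtain ⟨l, hl⟩ := IsCofiltered.inf_objs_exists (s.image j)
  refine ⟨l, ?_⟩
  have := hYa l
  have := hXa l
  set fl := stageMap D g₀ f₀ l
  letI : Algebra Γ(stage D g₀ l, ⊤) Γ(stage D (f₀ ≫ g₀) l, ⊤) := fl.appTop.hom.toAlgebra
  let B := integralClosure Γ(stage D g₀ l, ⊤) Γ(stage D (f₀ ≫ g₀) l, ⊤)
  have hgen : ∀ b : Γ(X₀, ⊤), (toBase D (f₀ ≫ g₀) l).appTop b ∈ B := by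
    have hbase : ∀ r : Γ(Y₀, ⊤), (toBase D (f₀ ≫ g₀) l).appTop (f₀.appTop r) ∈ B := fun r => by
      rw [← CommRingCat.comp_apply, ← Scheme.Hom.comp_appTop, ← stageMap_toBase, Scheme.Hom.comp_appTop,
        CommRingCat.comp_apply]
      exact B.algebraMap_mem ((toBase D g₀ l).appTop r)
    intro b
    have hb : b ∈ Algebra.adjoin Γ(Y₀, ⊤) (s : Set Γ(X₀, ⊤)) := hs ▸ Algebra.mem_top
    induction hb using Algebra.adjoin_induction with
    | mem x hx =>
      have φ : l ⟶ j x := (hl (Finset.mem_image_of_mem j hx)).some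
      obtain ⟨p, hp, hpe⟩ := hj x
      refine ⟨p.map (trans D g₀ φ).appTop.hom, hp.map _, ?_⟩
      change Polynomial.eval₂ fl.appTop.hom _ _ = 0
      have e1 : fl.appTop.hom.comp (trans D g₀ φ).appTop.hom =
          (trans D (f₀ ≫ g₀) φ).appTop.hom.comp (stageMap D g₀ f₀ (j x)).appTop.hom := by
        rw [← CommRingCat.hom_comp, ← Scheme.Hom.comp_appTop, ← trans_stageMap, Scheme.Hom.comp_appTop,
          CommRingCat.hom_comp]
      have e2 : (toBase D (f₀ ≫ g₀) l).appTop x =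
          (trans D (f₀ ≫ g₀) φ).appTop ((toBase D (f₀ ≫ g₀) (j x)).appTop x) := by
        rw [← CommRingCat.comp_apply, ← Scheme.Hom.comp_appTop, trans_toBase]
      rw [Polynomial.eval₂_map, e1, e2, ← Polynomial.hom_eval₂, hpe, map_zero]
    | algebraMap r => exact hbase r
    | add x y _ _ hx hy => rw [map_add]; exact add_mem hx hy
    | mul x y _ _ hx hy => rw [map_mul]; exact mul_mem hx hy
  have hpo := isPushout_appTop_of_isPullback (isPullback_stageMap D g₀ f₀ l)
  have hu : CommRingCat.ofHom ((toBase D (f₀ ≫ g₀) l).appTop.hom.codRestrict B hgen) ≫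
      CommRingCat.ofHom B.val.toRingHom = (toBase D (f₀ ≫ g₀) l).appTop := rfl
  have hv : CommRingCat.ofHom (algebraMap Γ(stage D g₀ l, ⊤) B) ≫ CommRingCat.ofHom B.val.toRingHom = fl.appTop := rfl
  let inv := hpo.desc (CommRingCat.ofHom ((toBase D (f₀ ≫ g₀) l).appTop.hom.codRestrict B hgen))
    (CommRingCat.ofHom (algebraMap Γ(stage D g₀ l, ⊤) B)) (by
      have : Mono (CommRingCat.ofHom B.val.toRingHom) :=
        ConcreteCategory.mono_of_injective _ Subtype.val_injective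
      rw [← cancel_mono (CommRingCat.ofHom B.val.toRingHom), Category.assoc, Category.assoc, hu, hv]
      exact hpo.w)
  have hinv : inv ≫ CommRingCat.ofHom B.val.toRingHom = 𝟙 _ := by
    apply hpo.hom_ext
    · rw [hpo.inl_desc_assoc, hu, Category.comp_id]
    · rw [hpo.inr_desc_assoc, hv, Category.comp_id]
  have hint : fl.appTop.hom.IsIntegral := fun y => by
    have h1 := (inv y).2
    rw [show ((inv y : B) : Γ(stage D (f₀ ≫ g₀) l, ⊤)) = y from congr($hinv y)] at h1
    exact h1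
  have hlft : LocallyOfFiniteType fl :=
    MorphismProperty.of_isPullback (P := @LocallyOfFiniteType) (isPullback_stageMap D g₀ f₀ l) inferInstance
  have hflfin : fl.appTop.hom.Finite :=
    RingHom.finite_iff_isIntegral_and_finiteType.2
      ⟨hint, (HasRingHomProperty.iff_of_isAffine (P := @LocallyOfFiniteType)).1 hlft⟩
  exact (HasAffineProperty.iff_of_isAffine (P := @IsFinite)).2 ⟨hXa l, hflfin⟩

include hc hY hX in
/-- finite morphisms descend, given affineness -/
theorem exists_isFinite_of_isAffineHom [CompactSpace Y₀] [IsAffineHom f₀]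
    [LocallyOfFiniteType f₀] [IsFinite f] :
    ∃ j : Over i₀, IsFinite (stageMap D g₀ f₀ j) := by
  classical
  let 𝒰 := Y₀.affineCover.finiteSubcover
  have haff : ∀ k, IsAffine (𝒰.X k) := fun k => by dsimp [𝒰]; infer_instance
  have key : ∀ k, ∃ j : Over i₀,
      IsFinite (stageMap D (𝒰.f k ≫ g₀) (pullback.snd f₀ (𝒰.f k)) j) := by
    intro k
    have := haff k
    have : IsAffineHom (pullback.snd f₀ (𝒰.f k)) :=
      MorphismProperty.of_isPullback (P := @IsAffineHom) (IsPullback.of_hasPullback f₀ (𝒰.f k)) inferInstance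
    have : IsAffine (pullback f₀ (𝒰.f k)) := isAffine_of_isAffineHom (pullback.snd f₀ (𝒰.f k))
    have : LocallyOfFiniteType (pullback.snd f₀ (𝒰.f k)) :=
      MorphismProperty.of_isPullback (P := @LocallyOfFiniteType) (IsPullback.of_hasPullback f₀ (𝒰.f k)) inferInstance
    let qY' : pullback qY (𝒰.f k) ⟶ 𝒰.X k := pullback.snd _ _
    have hY' : IsPullback qY' (pullback.fst qY (𝒰.f k) ≫ g) (𝒰.f k ≫ g₀) (c.π.app i₀) :=
      (IsPullback.of_hasPullback qY (𝒰.f k)).flip.paste_vert hY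
    have hX' := IsPullback.of_hasPullback (pullback.snd f₀ (𝒰.f k)) qY'
    have h1 := hX'.paste_horiz (IsPullback.of_hasPullback f₀ (𝒰.f k))
    rw [show qY' ≫ 𝒰.f k = pullback.fst qY (𝒰.f k) ≫ qY from pullback.condition.symm] at h1
    have h2 : IsPullback (hX.lift _ _ (h1.w.trans (Category.assoc _ _ _).symm))
        (pullback.snd (pullback.snd f₀ (𝒰.f k)) qY') f (pullback.fst qY (𝒰.f k)) := by
      refine IsPullback.of_right ?_ (hX.lift_snd _ _ _) hX
      rw [hX.lift_fst]; exact h1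
    have : IsFinite (pullback.snd (pullback.snd f₀ (𝒰.f k)) qY') :=
      MorphismProperty.of_isPullback (P := @IsFinite) h2 inferInstance
    exact exists_isFinite_of_isAffine D c hc _ _ hY' hX'
  choose j hj using key
  cases nonempty_fintype 𝒰.I₀
  obtain ⟨l, hl⟩ := IsCofiltered.inf_objs_exists (Finset.univ.image j)
  refine ⟨l, IsZariskiLocalAtTarget.of_openCover (P := @IsFinite)
    (𝒰.pullback₁ (toBase D g₀ l)) fun (k : 𝒰.I₀) => ?_⟩
  have a : l ⟶ j k := (hl (Finset.mem_image_of_mem j (Finset.mem_univ k))).some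
  let p : pullback (toBase D g₀ l) (𝒰.f k) ⟶ stage D g₀ l := pullback.fst _ _
  let u : pullback (toBase D g₀ l) (𝒰.f k) ⟶ stage D (𝒰.f k ≫ g₀) (j k) :=
    pullback.lift (pullback.snd _ _) (p ≫ toStage D g₀ l ≫ D.map a.left) (by
      rw [← reassoc_of% (pullback.condition (f := toBase D g₀ l) (g := 𝒰.f k)),
        (isPullback_stage D g₀ l).w, Category.assoc, Category.assoc, ← D.map_comp, Over.w a])
  have hu : u ≫ toBase D (𝒰.f k ≫ g₀) (j k) = pullback.snd _ _ := pullback.lift_fst _ _ _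
  have h1 := (IsPullback.of_hasPullback (stageMap D g₀ f₀ l) p).paste_horiz
    (isPullback_stageMap D g₀ f₀ l)
  rw [show p ≫ toBase D g₀ l = u ≫ toBase D (𝒰.f k ≫ g₀) (j k) ≫ 𝒰.f k by
    rw [reassoc_of% hu]; exact pullback.condition] at h1
  have h2 := (isPullback_stageMap D (𝒰.f k ≫ g₀) (pullback.snd f₀ (𝒰.f k)) (j k)).paste_horiz
    (IsPullback.of_hasPullback f₀ (𝒰.f k))
  have h3 : IsPullback (h2.lift _ _ (h1.w.trans (Category.assoc _ _ _).symm))
      (pullback.snd (stageMap D g₀ f₀ l) p)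
      (stageMap D (𝒰.f k ≫ g₀) (pullback.snd f₀ (𝒰.f k)) (j k)) u := by
    refine IsPullback.of_right ?_ (h2.lift_snd _ _ _) h2
    rw [h2.lift_fst]; exact h1
  exact MorphismProperty.of_isPullback (P := @IsFinite) h3 (hj k)

include hc hY hX in
/-- finite morphisms descend -/
theorem exists_isFinite [CompactSpace (D.obj i₀)] [QuasiSeparatedSpace (D.obj i₀)]
    [QuasiCompact g₀] [QuasiSeparated g₀] [QuasiCompact (f₀ ≫ g₀)] [QuasiSeparated (f₀ ≫ g₀)]
    [LocallyOfFiniteType f₀] [IsFinite f] :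
    ∃ j : Over i₀, IsFinite (stageMap D g₀ f₀ j) := by
  obtain ⟨o, ho⟩ := exists_isAffineHom D c hc f₀ g₀ hY hX
  have : LocallyOfFiniteType (stageMap D g₀ f₀ o) :=
    MorphismProperty.of_isPullback (P := @LocallyOfFiniteType) (isPullback_stageMap D g₀ f₀ o) inferInstance
  have : CompactSpace Y₀ := QuasiCompact.compactSpace_of_compactSpace g₀
  have : CompactSpace (stage D g₀ o) := compactSpace_stage D g₀ o
  obtain ⟨j, hj⟩ := exists_isFinite_of_isAffineHom D c hc (i₀ := o.left)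
    (stageMap D g₀ f₀ o) (toStage D g₀ o) (isPullback_proj D g₀ c hY o)
    (isPullback_proj_stageMap D g₀ c hY f₀ hX o)
  exact exists_stageMap_of_descend D f₀ g₀ @IsFinite (exists_descend_of_rebase D f₀ g₀ @IsFinite o j hj)

end Groth.Agent.LimMore
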