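import Mathlib

/-!
Separatedness via affine covers, and descent of the generation condition.
-/

set_option autoImplicit false
universe u
open CategoryTheory CategoryTheory.Limits AlgebraicGeometry

namespace Groth.Agent.LimMore

theorem closure_eq_top_of_isPushout {R A B P : CommRingCat.{u}} {f : R ⟶ A} {g : R ⟶ B} {i : A ⟶ P}
    {j : B ⟶ P} (h : IsPushout f g i j) :
    Subring.closure (Set.range i.hom ∪ Set.range j.hom) = ⊤ := by
  set E := Subring.closure (Set.range i.hom ∪ Set.range j.hom)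
  have hi : ∀ a, i.hom a ∈ E := fun a => Subring.subset_closure (.inl ⟨a, rfl⟩)
  have hj : ∀ b, j.hom b ∈ E := fun b => Subring.subset_closure (.inr ⟨b, rfl⟩)
  let v := h.desc (CommRingCat.ofHom (i.hom.codRestrict E hi)) (CommRingCat.ofHom (j.hom.codRestrict E hj))
    (by ext x; exact congr($(h.w) x))
  have hv : v ≫ CommRingCat.ofHom E.subtype = 𝟙 P := by
    apply h.hom_ext
    · rw [h.inl_desc_assoc, Category.comp_id]; rfl
    · rw [h.inr_desc_assoc, Category.comp_id]; rfl
  refine eq_top_iff.2 fun x _ => ?_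
  have : (v x).1 = x := congr($hv x)
  exact this ▸ (v x).2

/-- the images of the two maps generate -/
def Gen {W U V : Scheme.{u}} (p : W ⟶ U) (q : W ⟶ V) : Prop :=
  Subring.closure (Set.range p.appTop.hom ∪ Set.range q.appTop.hom) = ⊤

theorem isClosedImmersion_lift_of_gen {W U V S : Scheme.{u}} [IsAffine W] [IsAffine U] [IsAffine V] [IsAffine S]
    (a : U ⟶ S) (b : V ⟶ S) (p : W ⟶ U) (q : W ⟶ V) (w : p ≫ a = q ≫ b) (h : Gen p q) :
    IsClosedImmersion (pullback.lift p q w) := by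
  refine IsClosedImmersion.of_surjective_of_isAffine _ fun x => ?_
  have hle : Subring.closure (Set.range p.appTop.hom ∪ Set.range q.appTop.hom) ≤
      (pullback.lift p q w).appTop.hom.range := by
    refine Subring.closure_le.2 ?_
    rintro _ (⟨y, rfl⟩ | ⟨y, rfl⟩)
    · refine ⟨(pullback.fst a b).appTop y, ?_⟩
      rw [← CommRingCat.comp_apply, ← Scheme.Hom.comp_appTop, pullback.lift_fst]
    · refine ⟨(pullback.snd a b).appTop y, ?_⟩
      rw [← CommRingCat.comp_apply, ← Scheme.Hom.comp_appTop, pullback.lift_snd]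
  exact hle (h.ge (Subring.mem_top x))

theorem gen_of_isClosedImmersion_lift {W U V S : Scheme.{u}} [IsAffine U] [IsAffine V] [IsAffine S]
    (a : U ⟶ S) (b : V ⟶ S) (p : W ⟶ U) (q : W ⟶ V) (w : p ≫ a = q ≫ b)
    [IsClosedImmersion (pullback.lift p q w)] : Gen p q := by
  have hs := (IsClosedImmersion.isAffine_surjective_of_isAffine (pullback.lift p q w)).2
  have hp := closure_eq_top_of_isPushout (isPushout_appTop_of_isPullback (IsPullback.of_hasPullback a b))
  refine eq_top_iff.2 fun x _ => ?_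
  obtain ⟨y, rfl⟩ := hs x
  have hy : y ∈ Subring.closure (Set.range (pullback.fst a b).appTop.hom ∪ Set.range (pullback.snd a b).appTop.hom) :=
    hp.ge (Subring.mem_top y)
  have : Subring.closure (Set.range (pullback.fst a b).appTop.hom ∪ Set.range (pullback.snd a b).appTop.hom) ≤
      (Subring.closure (Set.range p.appTop.hom ∪ Set.range q.appTop.hom)).comap
        (pullback.lift p q w).appTop.hom := by
    refine Subring.closure_le.2 ?_
    rintro _ (⟨z, rfl⟩ | ⟨z, rfl⟩) <;> refine Subring.subset_closure ?_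
    · exact .inl ⟨z, congr($(congrArg Scheme.Hom.appTop (pullback.lift_fst p q w)) z).symm⟩
    · exact .inr ⟨z, congr($(congrArg Scheme.Hom.appTop (pullback.lift_snd p q w)) z).symm⟩
  exact this hy

/-- separatedness over an affine base through an affine cover -/
theorem isSeparated_of_cover {X S : Scheme.{u}} [IsAffine S] (t : X ⟶ S) {ι : Type u} (U : ι → X.Opens)
    (hU : TopologicalSpace.IsOpenCover U) (hUa : ∀ a, IsAffineOpen (U a)) (hW : ∀ a b, IsAffineOpen (U a ⊓ U b))
    (hgen : ∀ a b, Gen (X.homOfLE (inf_le_left : U a ⊓ U b ≤ U a)) (X.homOfLE (inf_le_right : U a ⊓ U b ≤ U b))) :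
    IsSeparated t := by
  let 𝒰 := X.openCoverOfIsOpenCover U hU
  refine ⟨IsZariskiLocalAtTarget.of_openCover (Scheme.Pullback.openCoverOfLeftRight 𝒰 𝒰 t t) ?_⟩
  intro ⟨(a : ι), (b : ι)⟩
  dsimp [Scheme.Cover.pullbackHom]
  refine (MorphismProperty.cancel_left_of_respectsIso (P := @IsClosedImmersion)
    (f := (pullbackDiagonalMapIdIso ..).inv) _).mp ?_
  let e := (isPullback_opens_inf (U a) (U b)).isoPullback
  refine (MorphismProperty.cancel_left_of_respectsIso (P := @IsClosedImmersion) (f := e.hom) _).mp ?_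
  have : IsAffine (U a).toScheme := hUa a
  have : IsAffine (U b).toScheme := hUa b
  have : IsAffine (U a ⊓ U b : X.Opens).toScheme := hW a b
  have hcl := isClosedImmersion_lift_of_gen ((U a).ι ≫ t) ((U b).ι ≫ t) _ _
    (by rw [reassoc_of% (isPullback_opens_inf (U a) (U b)).w]) (hgen a b)
  show IsClosedImmersion (e.hom ≫ (pullbackDiagonalMapIdIso (U a).ι (U b).ι t).inv ≫
    pullback.snd (pullback.diagonal t) (pullback.map ((U a).ι ≫ t) ((U b).ι ≫ t) t t (U a).ι (U b).ι (𝟙 S) _ _))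
  convert hcl using 1
  apply pullback.hom_ext <;> simp [e, pullback.map, pullback.lift_fst, pullback.lift_snd]

/-- converse of `isSeparated_of_cover` -/
theorem gen_of_isSeparated {X S : Scheme.{u}} [IsAffine S] (t : X ⟶ S) [IsSeparated t] {U V : X.Opens}
    (hU : IsAffineOpen U) (hV : IsAffineOpen V) :
    Gen (X.homOfLE (inf_le_left : U ⊓ V ≤ U)) (X.homOfLE (inf_le_right : U ⊓ V ≤ V)) := by
  have : IsAffine U.toScheme := hU
  have : IsAffine V.toScheme := hV
  have hP := isPullback_opens_inf U V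
  have : IsClosedImmersion (pullback.lift (X.homOfLE (inf_le_left : U ⊓ V ≤ U))
      (X.homOfLE (inf_le_right : U ⊓ V ≤ V)) (show _ ≫ U.ι ≫ t = _ ≫ V.ι ≫ t by rw [reassoc_of% hP.w])) := by
    have h := (inferInstance : IsClosedImmersion (pullback.mapDesc U.ι V.ι t))
    rw [← MorphismProperty.cancel_left_of_respectsIso @IsClosedImmersion hP.isoPullback.hom] at h
    convert h using 1
    apply pullback.hom_ext <;> simp [pullback.mapDesc, pullback.map, pullback.lift_fst, pullback.lift_snd]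
  exact gen_of_isClosedImmersion_lift (U.ι ≫ t) (V.ι ≫ t) _ _ _

section descent

variable {J : Type u} [Category.{u} J] [IsCofiltered J] {DW DU DV : J ⥤ Scheme.{u}} (α : DW ⟶ DU) (β : DW ⟶ DV)
variable (cW : Cone DW) (hW : IsLimit cW) (cU : Cone DU) (hU : IsLimit cU) (cV : Cone DV) (hV : IsLimit cV)
variable [∀ j, IsAffine (DW.obj j)] [∀ j, IsAffine (DU.obj j)] [∀ j, IsAffine (DV.obj j)]

include hW hU hV in
/-- the generation condition descends -/
theorem exists_gen (p : cW.pt ⟶ cU.pt) (q : cW.pt ⟶ cV.pt) (hp : ∀ j, cW.π.app j ≫ α.app j = p ≫ cU.π.app j)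
    (hq : ∀ j, cW.π.app j ≫ β.app j = q ≫ cV.π.app j) (hgen : Gen p q)
    (hcart : ∀ {j k : J} (a : j ⟶ k), IsPullback (DW.map a) (α.app j) (α.app k) (DU.map a))
    (o : J) [LocallyOfFiniteType (α.app o)] :
    ∃ j : J, ∀ l : J, (l ⟶ j) → Gen (α.app l) (β.app l) := by
  classical
  let E : (j : J) → Subring Γ(DW.obj j, ⊤) := fun j =>
    Subring.closure (Set.range (α.app j).appTop.hom ∪ Set.range (β.app j).appTop.hom)
  have hmono : ∀ {j k : J} (a : j ⟶ k) (z : Γ(DW.obj k, ⊤)), z ∈ E k → (DW.map a).appTop z ∈ E j := by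
    intro j k a z hz
    have : E k ≤ (E j).comap (DW.map a).appTop.hom := by
      refine Subring.closure_le.2 ?_
      rintro _ (⟨y, rfl⟩ | ⟨y, rfl⟩) <;> refine Subring.subset_closure ?_
      · exact .inl ⟨(DU.map a).appTop y, congr($(congrArg Scheme.Hom.appTop (α.naturality a)) y).symm⟩
      · exact .inr ⟨(DV.map a).appTop y, congr($(congrArg Scheme.Hom.appTop (β.naturality a)) y).symm⟩
    exact this hz
  let G : Subring Γ(cW.pt, ⊤) :=
  { carrier := {z | ∃ j, ∃ z' ∈ E j, (cW.π.app j).appTop z' = z}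
    one_mem' := ⟨o, 1, one_mem _, map_one _⟩
    zero_mem' := ⟨o, 0, zero_mem _, map_zero _⟩
    neg_mem' := by rintro _ ⟨j, z, hz, rfl⟩; exact ⟨j, -z, neg_mem hz, map_neg _ _⟩
    add_mem' := by
      rintro _ _ ⟨j₁, z₁, h₁, rfl⟩ ⟨j₂, z₂, h₂, rfl⟩
      obtain ⟨j, e₁, e₂, -⟩ := IsCofilteredOrEmpty.cone_objs j₁ j₂
      refine ⟨j, _, add_mem (hmono e₁ _ h₁) (hmono e₂ _ h₂), ?_⟩
      rw [map_add, ← CommRingCat.comp_apply, ← Scheme.Hom.comp_appTop, cW.w,
        ← CommRingCat.comp_apply, ← Scheme.Hom.comp_appTop, cW.w]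
    mul_mem' := by
      rintro _ _ ⟨j₁, z₁, h₁, rfl⟩ ⟨j₂, z₂, h₂, rfl⟩
      obtain ⟨j, e₁, e₂, -⟩ := IsCofilteredOrEmpty.cone_objs j₁ j₂
      refine ⟨j, _, mul_mem (hmono e₁ _ h₁) (hmono e₂ _ h₂), ?_⟩
      rw [map_mul, ← CommRingCat.comp_apply, ← Scheme.Hom.comp_appTop, cW.w,
        ← CommRingCat.comp_apply, ← Scheme.Hom.comp_appTop, cW.w] }
  have hG : ∀ z, z ∈ G := by
    intro z
    have hle : Subring.closure (Set.range p.appTop.hom ∪ Set.range q.appTop.hom) ≤ G := by
      refine Subring.closure_le.2 ?_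
      rintro _ (⟨y, rfl⟩ | ⟨y, rfl⟩)
      · obtain ⟨j, y, rfl⟩ := exists_appTop_π_eq_of_isAffine_of_isLimit DU cU hU y
        exact ⟨j, _, Subring.subset_closure (.inl ⟨y, rfl⟩),
          congr($(congrArg Scheme.Hom.appTop (hp j)) y)⟩
      · obtain ⟨j, y, rfl⟩ := exists_appTop_π_eq_of_isAffine_of_isLimit DV cV hV y
        exact ⟨j, _, Subring.subset_closure (.inr ⟨y, rfl⟩),
          congr($(congrArg Scheme.Hom.appTop (hq j)) y)⟩
    exact hle (hgen.ge (Subring.mem_top z))
  have hft : (α.app o).appTop.hom.FiniteType :=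
    (HasRingHomProperty.iff_of_isAffine (P := @LocallyOfFiniteType)).1 inferInstance
  algebraize [(α.app o).appTop.hom]
  obtain ⟨s, hs⟩ := (inferInstance : Algebra.FiniteType Γ(DU.obj o, ⊤) Γ(DW.obj o, ⊤)).out
  have key : ∀ b : Γ(DW.obj o, ⊤), ∃ (j : J) (e : j ⟶ o), (DW.map e).appTop b ∈ E j := by
    intro b
    obtain ⟨j, z, hz, hzb⟩ := hG ((cW.π.app o).appTop b)
    obtain ⟨k, ej, eo, -⟩ := IsCofilteredOrEmpty.cone_objs j o
    obtain ⟨l, e, he⟩ := exists_appTop_map_eq_zero_of_isAffine_of_isLimit DW cW hW k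
      ((DW.map ej).appTop z - (DW.map eo).appTop b) (by
        rw [map_sub, sub_eq_zero, ← CommRingCat.comp_apply, ← Scheme.Hom.comp_appTop, cW.w,
          ← CommRingCat.comp_apply, ← Scheme.Hom.comp_appTop, cW.w]
        exact hzb)
    rw [map_sub, sub_eq_zero] at he
    refine ⟨l, e ≫ eo, ?_⟩
    rw [DW.map_comp, Scheme.Hom.comp_appTop, CommRingCat.comp_apply, ← he]
    exact hmono e _ (hmono ej _ hz)
  choose j e hje using key
  obtain ⟨m, mo, hm⟩ := IsCofiltered.inf_exists (insert o (s.image j))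
    (by exact s.attach.image fun b => ⟨j b.1, o, Finset.mem_insert_of_mem (Finset.mem_image_of_mem _ b.2),
      Finset.mem_insert_self _ _, e b.1⟩)
  refine ⟨m, fun l a => ?_⟩
  let a' : l ⟶ o := a ≫ mo (Finset.mem_insert_self _ _)
  have hgl : ∀ b, (DW.map a').appTop b ∈ E l := by
    intro b
    have hb : b ∈ Algebra.adjoin Γ(DU.obj o, ⊤) (s : Set Γ(DW.obj o, ⊤)) := hs ▸ Algebra.mem_top
    induction hb using Algebra.adjoin_induction with
    | mem x hx =>
      have hm' := hm (Finset.mem_insert_of_mem (Finset.mem_image_of_mem _ hx)) (Finset.mem_insert_self _ _)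
        (f := e x) (Finset.mem_image.2 ⟨⟨x, hx⟩, Finset.mem_attach _ _, rfl⟩)
      have : a' = (a ≫ mo (Finset.mem_insert_of_mem (Finset.mem_image_of_mem _ hx))) ≫ e x := by
        simp [a', hm']
      rw [this, DW.map_comp, Scheme.Hom.comp_appTop, CommRingCat.comp_apply]
      exact hmono _ _ (hje x)
    | algebraMap r => exact hmono a' _ (Subring.subset_closure (.inl ⟨r, rfl⟩))
    | add x y _ _ hx hy => rw [map_add]; exact add_mem hx hy
    | mul x y _ _ hx hy => rw [map_mul]; exact mul_mem hx hy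
  have hp := closure_eq_top_of_isPushout (isPushout_appTop_of_isPullback (hcart a').flip)
  refine eq_top_iff.2 (hp ▸ Subring.closure_le.2 ?_)
  rintro _ (⟨y, rfl⟩ | ⟨y, rfl⟩)
  · exact Subring.subset_closure (.inl ⟨y, rfl⟩)
  · exact hgl y

end descent

end Groth.Agent.LimMore
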